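import Cfsg.Agent.Lib.RankOneIdent.Suzuki.Frame
import Cfsg.Agent.Lib.LieTwisted.SuzukiStructure
import Cfsg.Agent.S0345

/-!
# Uniqueness of the Suzuki groups

Owner: helper73. A simple Zassenhaus group with a non-abelian regular 2-kernel in a point
stabiliser is isomorphic to a Suzuki group `Cfsg.Lie.Sz`.
-/

set_option autoImplicit false
set_option linter.unusedSectionVars false
set_option linter.style.haveILetI false

namespace Cfsg.Agent.Lib.RankOneIdent.Suzuki

open MulAction
open Cfsg.Agent.Lib.Zassenhaus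
open Cfsg.Agent.Lib.LieTwisted.Suzuki (IsSzField sg uS dS wS opt)

universe u v

variable {G : Type u} {Ω : Type v} [Group G] [MulAction G Ω] [Finite Ω]

theorem three_not_dvd {k : ℕ} (hk : Odd k) :
    ¬ 3 ∣ ((2 ^ (2 * k) + 1) * ((2 ^ k) ^ 2 * (2 ^ k - 1))) := by
  obtain ⟨j, rfl⟩ := hk
  have h4 : ∀ i : ℕ, 4 ^ i % 3 = 1 := fun i => by rw [Nat.pow_mod]; norm_num
  have e1 : 2 ^ (2 * j + 1) = 2 * 4 ^ j := by rw [pow_succ, pow_mul]; ring
  have e2 : 2 ^ (2 * (2 * j + 1)) = 4 ^ (2 * j + 1) := by rw [pow_mul]; norm_num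
  rw [e1, e2, mul_pow, ← pow_mul]
  have hp : 1 ≤ 4 ^ j := Nat.one_le_pow _ _ (by norm_num)
  intro h
  rcases (Nat.Prime.dvd_mul Nat.prime_three).1 h with h | h
  · have := h4 (2 * j + 1); omega
  rcases (Nat.Prime.dvd_mul Nat.prime_three).1 h with h | h
  · have := h4 (j * 2); omega
  · have := h4 j; omega

/-- Coordinates for a simple Zassenhaus group with non-abelian kernel. -/
theorem exists_frame [IsSimpleGroup G] (hZ : Cfsg.IsZassenhausGroup G Ω) {a b : Ω} (hab : a ≠ b)
    {U : Subgroup G} (hU : RegKernel a b U) (hU2 : IsPGroup 2 U)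
    (hna : ∃ x y : U, x * y ≠ y * x) :
    ∃ (F : Type) (_ : Field F) (_ : Fintype F) (_ : CharP F 2) (φ : F ≃+* F) (m : ℕ),
      1 ≤ m ∧ Fintype.card F = 2 ^ (2 * m + 1) ∧ Nonempty (Frame a b U F φ) := by
  classical
  have := finite_group hZ
  have hcyc := (Cfsg.Agent.S0345.result hZ hab).1
  obtain ⟨q, hsuz, -, hc⟩ := SuzukiKernel.exists_suz hZ hab hU hU2 hna hcyc
  obtain ⟨k, hk, hk1, hn, hd, hcard, hc', -⟩ :=
    SuzukiKernel.structure_thm hZ hab hU hU2 hna hcyc
  let f : ↥(stabilizer G a ⊓ stabilizer G b) →* MulAut U :=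
    { toFun := fun δ =>
        { toFun := fun u => ⟨(δ : G) * u * (δ : G)⁻¹, RegKernel.conj_pair_mem hZ hab hU u.2 δ⟩
          invFun := fun u => ⟨(δ : G)⁻¹ * u * (δ : G), by
            simpa using RegKernel.conj_pair_mem hZ hab hU u.2 δ⁻¹⟩
          left_inv := fun u => Subtype.ext (by simp [mul_assoc])
          right_inv := fun u => Subtype.ext (by simp [mul_assoc])
          map_mul' := fun u v => Subtype.ext (by simp [mul_assoc]) }
      map_one' := MulEquiv.ext fun u => Subtype.ext (by simp)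
      map_mul' := fun δ ε => MulEquiv.ext fun u => Subtype.ext (by simp [mul_assoc]) }
  obtain ⟨x₀, y₀, hxy⟩ := hna
  have finj : Function.Injective f := by
    intro δ ε h
    have hx : (x₀ : G) ≠ 1 := fun e => hxy (by
      rw [show x₀ = 1 from Subtype.ext e, one_mul, mul_one])
    exact RegKernel.conj_pair_injective hZ hab hU x₀.2 hx
      (congrArg Subtype.val (DFunLike.congr_fun h x₀))
  have hcardK : Nat.card f.range = 2 ^ k - 1 := by
    rw [← hd]; exact (Nat.card_congr (MonoidHom.ofInjective finj).toEquiv).symm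
  have hcardI : Nat.card {v : U // v ≠ 1 ∧ v * v = 1} + 1 = q := by
    letI := Fintype.ofFinite U
    have hcz : Nat.card {v : U // v * v = 1} = q := by
      rw [← hsuz.cardZ]
      exact Nat.card_congr
        { toFun := fun v => ⟨(v.1 : G), v.1.2, congrArg Subtype.val v.2⟩
          invFun := fun g => ⟨⟨g.1, g.2.1⟩, Subtype.ext g.2.2⟩
          left_inv := fun _ => rfl
          right_inv := fun _ => rfl }
    rw [← hcz, ← Finite.card_option]
    refine Nat.card_congr ?_
    exact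
      { toFun := fun o => o.elim ⟨1, one_mul 1⟩ fun v => ⟨v.1, v.2.2⟩
        invFun := fun v => if h : v.1 = 1 then none else some ⟨v.1, h, v.2⟩
        left_inv := by
          rintro (_ | ⟨v, hv1, hv⟩)
          · simp
          · simp [hv1]
        right_inv := by
          rintro ⟨v, hv⟩
          by_cases h : v = 1
          · subst h; simp
          · simp [h] }
  have hK : Suzuki2.Basic.TransInvol f.range := by
    refine ⟨?_, ?_⟩
    · rintro _ ⟨δ, rfl⟩ _ ⟨ε, rfl⟩
      have : IsMulCommutative ↥(stabilizer G a ⊓ stabilizer G b) := inferInstance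
      rw [← map_mul, ← map_mul, mul_comm' δ ε]
    · intro x y hx1 hx hy1 hy
      let orb : ↥(stabilizer G a ⊓ stabilizer G b) → {v : U // v ≠ 1 ∧ v * v = 1} := fun δ =>
        ⟨f δ x, fun e => hx1 ((f δ).map_eq_one_iff.1 e), by rw [← map_mul, hx, map_one]⟩
      have horb : Function.Injective orb := fun δ ε e =>
        RegKernel.conj_pair_injective hZ hab hU x.2 (fun e' => hx1 (Subtype.ext e'))
          (congrArg Subtype.val (congrArg Subtype.val e))
      obtain ⟨δ, hδ⟩ := (horb.bijective_of_nat_card_le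
        (by have := hsuz.hd; omega)).2 ⟨y, hy1, hy⟩
      exact ⟨f δ, ⟨δ, rfl⟩, congrArg Subtype.val hδ⟩
  have hodd : Odd (Nat.card f.range) := by
    rw [hcardK]
    exact Nat.Even.sub_odd Nat.one_le_two_pow ((Nat.even_pow' (by omega)).2 even_two) odd_one
  obtain ⟨F, iF, iF', iC, φ, hF, -, ⟨C⟩⟩ := exists_coords hU2 f.range hK ⟨x₀, y₀, hxy⟩
    (by rw [hcard, hc']) hodd
  have hk' := hk
  obtain ⟨m, rfl⟩ := hk'
  refine ⟨F, iF, iF', iC, φ, m, by omega, hF.trans hc', ⟨{
    zg := hZ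
    ne := hab
    reg := hU
    invU := hsuz.invU
    odd := hsuz.odd
    three := by
      rw [RegKernel.card_group hZ hab hU, hn, hcard, hd]
      exact three_not_dvd hk
    pos := C.pos
    map_mul := C.map_mul
    lam := fun δ => C.lam ⟨f δ, δ, rfl⟩
    lam_ne := fun δ => C.lam_ne _
    lam_surj := fun l hl => by
      obtain ⟨⟨_, δ, rfl⟩, hδ⟩ := C.lam_surj l hl
      exact ⟨δ, hδ⟩
    equi := fun δ w x hx => by
      rw [show x = f δ w from Subtype.ext hx]
      exact C.equi ⟨f δ, δ, rfl⟩ w }⟩⟩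

/-- Inverse automorphism coordinates. -/
def Frame.flip {F : Type} [Field F] [CharP F 2] {φ : F ≃+* F} {a b : Ω} {U : Subgroup G}
    (M : Frame a b U F φ) : Frame a b U F φ.symm where
  zg := M.zg
  ne := M.ne
  reg := M.reg
  invU := M.invU
  odd := M.odd
  three := M.three
  pos := M.pos.trans
    { toFun := fun p => (φ p.1, p.2 + p.1 * φ p.1)
      invFun := fun p => (φ.symm p.1, p.2 - φ.symm p.1 * p.1)
      left_inv := fun p => by simp
      right_inv := fun p => by simp }
  map_mul x y := by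
    simp only [Equiv.trans_apply, M.map_mul, Equiv.coe_fn_mk, mulc, RingEquiv.symm_apply_apply,
      map_add, Prod.mk.injEq, true_and]
    grind
  lam δ := φ (M.lam δ)
  lam_ne δ := (map_ne_zero φ).mpr (M.lam_ne δ)
  lam_surj l hl := by
    obtain ⟨δ, hδ⟩ := M.lam_surj (φ.symm l) ((map_ne_zero φ.symm).mpr hl)
    exact ⟨δ, by rw [hδ, RingEquiv.apply_symm_apply]⟩
  equi δ w x h := by
    simp only [Equiv.trans_apply, M.equi δ w x h, Equiv.coe_fn_mk, scl,
      RingEquiv.symm_apply_apply, Prod.mk.injEq]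
    exact ⟨_root_.map_mul φ _ _, by rw [_root_.map_mul]; ring⟩


theorem ringEquiv_eq_sg {F : Type} [Field F] [Fintype F] {m : ℕ} (h : IsSzField F m) {φ : F ≃+* F}
    (hφ : ∀ x, φ (φ x) = x ^ 2) (x : F) : φ x = sg m x := by
  haveI := h.charTwo
  haveI : Fact (Nat.Prime 2) := ⟨Nat.prime_two⟩
  letI : Algebra (ZMod 2) F := ZMod.algebra F 2
  haveI : FiniteDimensional (ZMod 2) F := Module.Finite.of_finite
  let τ : F ≃ₐ[ZMod 2] F := AlgEquiv.ofRingEquiv (f := φ) (fun c => by
    have : (φ : F →+* F).comp (algebraMap (ZMod 2) F) = algebraMap (ZMod 2) F := Subsingleton.elim _ _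
    exact RingHom.congr_fun this c)
  have hτ : ∀ (i : ℕ) (y : F), (τ ^ (2 * i)) y = y ^ 2 ^ i := by
    intro i
    induction i with
    | zero => intro y; simp
    | succ i ih =>
      intro y
      rw [show 2 * (i + 1) = 2 + 2 * i by ring, pow_add, AlgEquiv.mul_apply, ih, pow_two,
        AlgEquiv.mul_apply]
      show φ (φ (y ^ 2 ^ i)) = _
      rw [hφ, ← pow_mul, ← pow_succ]
  have hfr : Module.finrank (ZMod 2) F = 2 * m + 1 := by
    have e := Module.natCard_eq_pow_finrank (K := ZMod 2) (V := F)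
    rw [Nat.card_eq_fintype_card, h.card, Nat.card_zmod] at e
    exact (Nat.pow_right_injective le_rfl e).symm
  haveI : IsGalois (ZMod 2) F := GaloisField.instIsGaloisOfFinite
  have hord : τ ^ (2 * m + 1) = 1 := by
    rw [← hfr, ← IsGalois.card_aut_eq_finrank (ZMod 2) F]
    exact pow_card_eq_one'
  have h1 : (τ ^ (2 * m + 1)) (sg m x) = sg m x := by rw [hord]; rfl
  rw [pow_succ', AlgEquiv.mul_apply, hτ] at h1
  change φ (sg m x ^ 2 ^ m) = sg m x at h1
  rw [← h1]
  congr 1
  unfold sg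
  rw [← pow_mul, ← pow_add, show m + 1 + m = 2 * m + 1 by ring, h.pow_card']

/-- The point action of `Cfsg.Sz` on coordinates. -/
theorem sz_perm {F : Type} [Field F] [Fintype F] {m : ℕ} (h : IsSzField F m) (hm : 1 ≤ m) :
    ∃ ρ : Cfsg.Sz F m →* Equiv.Perm (Option (F × F)),
      Function.Injective ρ ∧ ∀ g o, opt m (ρ g o) = g • opt m o := by
  have hex : ∀ (g : Cfsg.Sz F m) (o : Option (F × F)), ∃ o', opt m o' = g • opt m o := by
    intro g o
    cases o with
    | none => obtain ⟨p, hp⟩ := h.exists_opt_eq_smul hm g; exact ⟨p, hp.symm⟩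
    | some p =>
      obtain ⟨q, hq⟩ := h.exists_opt_eq_smul hm (g * (uS h p.1 p.2 * wS h))
      refine ⟨q, ?_⟩
      rw [← hq, mul_smul, mul_smul, h.wS_smul_none, h.uS_smul_zero]
  choose act hact using hex
  letI A : MulAction (Cfsg.Sz F m) (Option (F × F)) :=
    { smul := act
      one_smul := fun o => LieTwisted.Suzuki.opt_injective (by
        show opt m (act 1 o) = opt m o
        rw [hact, one_smul])
      mul_smul := fun g g' o => LieTwisted.Suzuki.opt_injective (by
        show opt m (act (g * g') o) = opt m (act g (act g' o))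
        rw [hact, hact, hact, mul_smul]) }
  refine ⟨MulAction.toPermHom _ _, ?_, fun g o => hact g o⟩
  refine (injective_iff_map_eq_one _).2 fun g hg => h.faithful hm fun o => ?_
  rw [← hact g o]
  exact congrArg (opt m) (DFunLike.congr_fun hg o)

open Cfsg.Agent.Lib.LieTwisted.Suzuki (zfun) in
/-- The recognition, once `φ ^ 2` is the squaring map. -/
theorem iso_of_frame {F : Type} [Field F] [Fintype F] [CharP F 2] {φ : F ≃+* F} {m : ℕ}
    (hm : 1 ≤ m) (hF : Fintype.card F = 2 ^ (2 * m + 1)) (hφ : ∀ x, φ (φ x) = x ^ 2)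
    {a b : Ω} {U : Subgroup G} (M : Frame a b U F φ) :
    Nonempty (G ≃* Cfsg.Lie.Sz F (2 ^ (m + 1))) := by
  classical
  have h : IsSzField F m := ⟨hF⟩
  have hsg : ∀ x, φ x = sg m x := ringEquiv_eq_sg h hφ
  obtain ⟨t, c, k, ht, R⟩ := M.exists_rel
  obtain ⟨s, hs⟩ := h.exists_ne01 hm
  have hc := c_eq_one R hφ ⟨s, hs⟩
  let e : Option (F × F) ≃ Ω := Equiv.ofBijective _ M.pt_bijective
  have := Zassenhaus.faithful M.zg
  let ρ : G →* Equiv.Perm (Option (F × F)) :=
    (e.symm.permCongrHom : Equiv.Perm Ω ≃* Equiv.Perm (Option (F × F))).toMonoidHom.comp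
      (MulAction.toPermHom G Ω)
  have hρ : ∀ g o o', g • M.pt o = M.pt o' → ρ g o = o' := by
    intro g o o' hh
    show e.symm (g • e o) = o'
    rw [Equiv.symm_apply_eq]
    exact hh
  have ρinj : Function.Injective ρ := (e.symm.permCongrHom.injective).comp MulAction.toPerm_injective
  obtain ⟨σ, σinj, hσ⟩ := sz_perm h hm
  have hσ' : ∀ g o o', g • opt m o = opt m o' → σ g o = o' := fun g o o' hh =>
    LieTwisted.Suzuki.opt_injective ((hσ g o).trans hh)
  have hu : ∀ x y : F, ρ (M.el (x, y)) = σ (uS h x y) := by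
    intro x y
    refine Equiv.ext fun o => ?_
    cases o with
    | none => rw [hρ _ _ none (M.el_smul_none _), hσ' _ _ none (h.uS_smul_none x y)]
    | some p =>
      rw [hρ _ _ _ (M.el_smul_some (x, y) p), hσ' _ _ _ (h.uS_smul_some x y p.1 p.2), mulc, hsg]
  have hd : ∀ (δ : ↥(stabilizer G a ⊓ stabilizer G b)) (u : Fˣ), sg m (u : F) = M.lam δ →
      ρ δ = σ (dS h u) := by
    intro δ u hu'
    refine Equiv.ext fun o => ?_
    cases o with
    | none => rw [hρ _ _ none (M.pair_smul_none δ), hσ' _ _ none (h.dS_smul_none u)]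
    | some p =>
      rw [hρ _ _ _ (M.pair_smul_some δ p), hσ' _ _ _ (h.dS_smul_some u p.1 p.2), scl, ← hu', hsg,
        h.sg_sg]
  have hw : ρ t = σ (wS h) := by
    refine Equiv.ext fun o => ?_
    cases o with
    | none =>
      rw [hρ _ _ _ (M.swap_smul_none ht), hσ' _ _ _ h.wS_smul_none]
      rfl
    | some p =>
      by_cases hp : p = 0
      · subst hp
        rw [hρ _ _ _ (M.swap_smul_zero ht), hσ' _ (some 0) none h.wS_smul_zero]
      obtain ⟨hz, hP⟩ := formula R hφ hc p hp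
      have hzf : zf φ p = zfun m p.1 p.2 := by simp [zf, zfun, hsg]
      rw [hzf] at hz hP
      rw [hρ _ _ _ (M.swap_smul_some ht hp).1, hP, hσ' _ (some p) _
        (LieTwisted.Suzuki.smul_opt_of (wS h) (q := some (p.2 / zfun m p.1 p.2, p.1 / zfun m p.1 p.2))
          (zfun m p.1 p.2) (h.wMat_pt hz))]
  have hle1 : ρ.range ≤ σ.range := by
    rintro _ ⟨g, rfl⟩
    have hD : ∀ δ : ↥(stabilizer G a ⊓ stabilizer G b), ρ δ ∈ σ.range := by
      intro δ
      obtain ⟨u, hu'⟩ := h.sg_surjective (M.lam δ)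
      have hu0 : u ≠ 0 := fun e => M.lam_ne δ (by rw [← hu', e, LieTwisted.Suzuki.sg_zero])
      exact ⟨_, (hd δ (Units.mk0 u hu0) hu').symm⟩
    have hUel : ∀ p : F × F, ρ (M.el p) ∈ σ.range := fun p => ⟨_, (hu p.1 p.2).symm⟩
    have hfix : ∀ g : G, g • a = a → ρ g ∈ σ.range := by
      intro g hga
      obtain ⟨w, hw', hδ⟩ := RegKernel.decomp M.ne M.reg hga
      have hw'' := hUel (M.pos ⟨w, hw'⟩)
      rw [M.el_pos] at hw''
      rw [show g = w * (w⁻¹ * g) by group, map_mul]
      exact mul_mem hw'' (hD ⟨_, hδ⟩)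
    obtain ⟨o, ho⟩ := M.pt_bijective.2 (g • a)
    cases o with
    | none => exact hfix g ho.symm
    | some p =>
      have h1 : (t * (M.el p)⁻¹ * g) • a = a := by
        rw [mul_smul, mul_smul, ← ho]
        show t • (M.el p)⁻¹ • M.el p • b = a
        rw [inv_smul_smul, ht.tb]
      rw [show g = M.el p * (t * (t * (M.el p)⁻¹ * g)) by
        rw [← mul_assoc t, ← mul_assoc t, ht.sq, one_mul, mul_inv_cancel_left], map_mul, map_mul]
      exact mul_mem (hUel p) (mul_mem ⟨_, hw.symm⟩ (hfix _ h1))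
  have hle2 : σ.range ≤ ρ.range := by
    rintro _ ⟨g, rfl⟩
    have hD : ∀ u : Fˣ, σ (dS h u) ∈ ρ.range := by
      intro u
      obtain ⟨δ, hδ⟩ := M.lam_surj (sg m (u : F)) (mt LieTwisted.Suzuki.sg_eq_zero.1 u.ne_zero)
      exact ⟨_, hd δ u hδ.symm⟩
    obtain ⟨x, y, u, rfl | ⟨x', y', rfl⟩⟩ := h.bruhat hm g
    · rw [map_mul]; exact mul_mem ⟨_, hu x y⟩ (hD u)
    · rw [map_mul, map_mul, map_mul]
      exact mul_mem (mul_mem ⟨_, hu x' y'⟩ ⟨_, hw⟩) (mul_mem ⟨_, hu x y⟩ (hD u))
  exact ⟨(((MonoidHom.ofInjective ρinj).trans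
    (MulEquiv.subgroupCongr (le_antisymm hle1 hle2))).trans
      (MonoidHom.ofInjective σinj).symm).trans (LieTwisted.Suzuki.szEquiv h hm)⟩

/-- A simple Zassenhaus group with a non-abelian regular 2-kernel is a Suzuki group. -/
theorem isoSuzuki [IsSimpleGroup G] (hZ : Cfsg.IsZassenhausGroup G Ω) {a b : Ω} (hab : a ≠ b)
    {U : Subgroup G} (hU : RegKernel a b U) (hU2 : IsPGroup 2 U)
    (hna : ∃ x y : U, x * y ≠ y * x) : Cfsg.Lie.IsoSuzuki G := by
  obtain ⟨F, iF, iF', iC, φ, m, hm, hF, ⟨M⟩⟩ := exists_frame hZ hab hU hU2 hna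
  obtain ⟨t, c, k, -, R⟩ := M.exists_rel
  refine ⟨F, iF, iF', m, hm, hF, ?_⟩
  rcases frob_cases R with hσ | hσ
  · exact iso_of_frame hm hF hσ M
  · refine iso_of_frame hm hF (fun z => ?_) M.flip
    have := hσ (φ.symm (φ.symm z))
    rw [RingEquiv.apply_symm_apply, RingEquiv.apply_symm_apply] at this
    exact this.symm

end Cfsg.Agent.Lib.RankOneIdent.Suzuki
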