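import Mathlib

/-!
# The point map of a Suzuki-type rank-one group: the algebra

Owner: helper73. `F` has characteristic `2`, `φ` is an automorphism such that `x ↦ x φ(x)` is
bijective. The 2-group is `F × F` with `(x, y)(x', y') = (x + x', y + y' + φ(x) x')`, the torus
acts by `l : (x, y) ↦ (l x, l φ(l) y)`. `Rel` lists what the group provides about the map `P`
induced by a swapping involution `t`: it is an involution, twisted equivariant, fixes `r = (1, c)`,
sends `z = (0, k)` to `r⁻¹`, and satisfies the relation `t z t = r⁻¹ t r`. We show that `φ² x = x²`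
or `(φ² x)² = x` for all `x`, and in the first case `P (x, y) = (y / Z, x / Z)` with
`Z = x y + φ(x) x² + φ(y)`.
-/

set_option autoImplicit false
set_option linter.unusedSectionVars false

namespace Cfsg.Agent.Lib.RankOneIdent.Suzuki

variable {F : Type*} [Field F] [CharP F 2] (φ : F ≃+* F)

/-- The product. -/
def mulc (u v : F × F) : F × F := (u.1 + v.1, u.2 + v.2 + φ u.1 * v.1)

/-- The torus action. -/
def scl (l : F) (u : F × F) : F × F := (l * u.1, l * φ l * u.2)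

/-- The denominator of the Suzuki point map. -/
def zf (u : F × F) : F := u.1 * u.2 + φ u.1 * u.1 ^ 2 + φ u.2

/-- The relations on the point map. -/
structure Rel (P : F × F → F × F) (c k : F) : Prop where
  bij : Function.Bijective fun x : F => x * φ x
  k0 : k ≠ 0
  invol : ∀ u, u ≠ 0 → P (P u) = u
  scale : ∀ l, l ≠ 0 → ∀ u, u ≠ 0 → P (scl φ l u) = scl φ l⁻¹ (P u)
  fixR : P (1, c) = (1, c)
  atZ : P (0, k) = (1, c + 1)
  ident : ∀ v, v ≠ 0 → v ≠ (1, c + 1) →
    P ((P v).1, (P v).2 + k) = mulc φ (1, c + 1) (P (mulc φ (1, c) v))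

variable {φ} {P : F × F → F × F} {c k : F} (h : Rel φ P c k)

theorem pair_ne_zero {x y : F} (h : x ≠ 0 ∨ y ≠ 0) : ((x, y) : F × F) ≠ 0 := by
  intro e
  simp only [Prod.mk_eq_zero] at e
  tauto

theorem norm_ne_zero {x : F} (hx : x ≠ 0) : x * φ x ≠ 0 :=
  mul_ne_zero hx ((map_ne_zero φ).mpr hx)

omit [CharP F 2] in
theorem gamma_aux {a b β W Γ : F} (hsq : a ^ 2 * b ^ 2 = a ^ 2 + b ^ 2)
    (h3 : b ^ 2 * (a ^ 4 * β + Γ) = a ^ 2 * (b ^ 4 * W + Γ)) [CharP F 2] :
    a ^ 2 * b ^ 2 * Γ = a ^ 2 * b ^ 2 * (a ^ 2 * β + b ^ 2 * W) := by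
  grind

theorem sq_rel {a b : F} (hb : b * (1 + a) = a) : a ^ 2 * b ^ 2 = a ^ 2 + b ^ 2 := by
  have e : a * b = a + b := by grind
  rw [← mul_pow, e, CharTwo.add_sq]

theorem quad_aux {s S u U a b : F} (ha : a = s * S) (hu : b = u * U) (hb : b * (1 + a) = a)
    (h4 : (s + u) * (S + U) = a ^ 2 * ((1 + u) * (1 + U)) + b ^ 2 * ((1 + s) * (1 + S))) :
    S * ((1 + S * s ^ 2) * u + s * (1 + a)) * ((1 + a) ^ 2 * u + s * (1 + s * S ^ 2)) = 0 := by
  grind

theorem eq_of_add {x y : F} (e : x + y = 0) : x = y := CharTwo.add_eq_zero.mp e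

include h

theorem norm_inj {x y : F} (e : x * φ x = y * φ y) : x = y := h.bij.1 e

theorem exists_norm {y : F} (hy : y ≠ 0) : ∃ x, x ≠ 0 ∧ x * φ x = y := by
  obtain ⟨x, hx⟩ := h.bij.2 y
  exact ⟨x, fun e => hy (by rw [← hx, e]; exact zero_mul _), hx⟩

theorem atR_inv : P (1, c + 1) = (0, k) := by
  rw [← h.atZ, h.invol _ (pair_ne_zero (Or.inr h.k0))]

/-- The relation at central elements. -/
theorem central {n : F} (hn : n ≠ 0) :
    n * (P (1, c + 1 + n * φ n * k)).1 = 1 + (P (1, c + n * φ n * k)).1 ∧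
      n * φ n * (P (1, c + 1 + n * φ n * k)).2 =
        c + 1 + (P (1, c + n * φ n * k)).2 + (P (1, c + n * φ n * k)).1 := by
  have hN := norm_ne_zero (φ := φ) hn
  have hv : ((0, n * φ n * k) : F × F) = scl φ n (0, k) := by simp [scl]
  have hP : P (0, n * φ n * k) = (n⁻¹, n⁻¹ * φ n⁻¹ * (c + 1)) := by
    rw [hv, h.scale n hn _ (pair_ne_zero (Or.inr h.k0)), h.atZ]
    simp [scl]
  have hid := h.ident (0, n * φ n * k) (pair_ne_zero (Or.inr (mul_ne_zero hN h.k0)))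
    (by simp [Prod.ext_iff])
  have harg : ((n⁻¹, n⁻¹ * φ n⁻¹ * (c + 1) + k) : F × F) =
      scl φ n⁻¹ (1, c + 1 + n * φ n * k) := by
    have hφn : φ n ≠ 0 := (map_ne_zero φ).mpr hn
    simp only [scl, Prod.mk.injEq, mul_one, true_and, map_inv₀]
    field_simp
  rw [hP, harg, h.scale _ (inv_ne_zero hn) _ (pair_ne_zero (Or.inl one_ne_zero)), inv_inv] at hid
  simp only [scl, mulc, map_one, mul_zero, add_zero, one_mul, Prod.mk.injEq] at hid
  exact hid

theorem k_eq_one : k = 1 := by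
  obtain ⟨n, hn, hnk⟩ := exists_norm h (inv_ne_zero h.k0)
  have hk : n * φ n * k = 1 := by rw [hnk, inv_mul_cancel₀ h.k0]
  have h1 := (central h hn).1
  rw [hk, show c + 1 + 1 = c by grind, h.fixR, atR_inv h] at h1
  simp only [mul_one, add_zero] at h1
  rw [h1, map_one, mul_one, one_mul] at hk
  exact hk

/-- The value on the products `r r_s⁻¹`. -/
theorem orbit {s : F} (hs0 : s ≠ 0) (hs1 : s ≠ 1) :
    ∃ u, u ≠ 0 ∧ u ≠ 1 ∧ u * φ u * (1 + s * φ s) = s * φ s ∧
      P (1 + s, c + (c + 1) * (s * φ s) + s) = (1 + u, c + (c + 1) * (u * φ u) + u) := by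
  have hk := k_eq_one h
  have ha : s * φ s ≠ 0 := norm_ne_zero hs0
  have ha1 : s * φ s ≠ 1 := fun e => hs1 (norm_inj h (by rw [e, map_one, mul_one]))
  have hτ : (s * φ s)⁻¹ + 1 ≠ 0 := fun e => ha1 (by
    have : (s * φ s)⁻¹ = 1 := by grind
    exact inv_eq_one.mp this)
  obtain ⟨w, hw, hwe⟩ := exists_norm h hτ
  have hP : P (0, (s * φ s)⁻¹) = (s, (c + 1) * (s * φ s)) := by
    have e : ((0, (s * φ s)⁻¹) : F × F) = scl φ s⁻¹ (0, k) := by
      simp [scl, hk, mul_comm]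
    rw [e, h.scale _ (inv_ne_zero hs0) _ (pair_ne_zero (Or.inr h.k0)), h.atZ, inv_inv]
    simp [scl, mul_comm]
  have hv0 : ((s, (c + 1) * (s * φ s)) : F × F) ≠ 0 := pair_ne_zero (Or.inl hs0)
  have hid := h.ident (s, (c + 1) * (s * φ s)) hv0 (by simp [Prod.ext_iff, hs1])
  have hinv : P (s, (c + 1) * (s * φ s)) = (0, (s * φ s)⁻¹) := by
    rw [← hP, h.invol _ (pair_ne_zero (Or.inr (inv_ne_zero ha)))]
  have hL : P (0, (s * φ s)⁻¹ + k) = (w⁻¹, (c + 1) * (w⁻¹ * φ w⁻¹)) := by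
    have e : ((0, (s * φ s)⁻¹ + k) : F × F) = scl φ w (0, k) := by simp [scl, hk, hwe]
    rw [e, h.scale _ hw _ (pair_ne_zero (Or.inr h.k0)), h.atZ]
    simp [scl, mul_comm]
  rw [hinv, hL] at hid
  have harg : mulc φ (1, c) (s, (c + 1) * (s * φ s)) = (1 + s, c + (c + 1) * (s * φ s) + s) := by
    simp [mulc]
  rw [harg] at hid
  generalize P (1 + s, c + (c + 1) * (s * φ s) + s) = q at hid ⊢
  obtain ⟨q1, q2⟩ := q
  simp only [mulc, map_one, one_mul, Prod.mk.injEq] at hid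
  have hb : w⁻¹ * φ w⁻¹ * (1 + s * φ s) = s * φ s := by
    rw [map_inv₀, ← mul_inv, hwe]
    generalize s * φ s = a at *
    have h1a : (1 : F) + a ≠ 0 := fun e => ha1 (eq_of_add e).symm
    have : a⁻¹ + 1 = (1 + a) * a⁻¹ := by field_simp
    rw [this]
    field_simp
  refine ⟨w⁻¹, inv_ne_zero hw, fun e => ?_, hb, ?_⟩
  · rw [e, map_one, mul_one, one_mul] at hb
    exact one_ne_zero (α := F) (by grind)
  · simp only [Prod.mk.injEq]
    obtain ⟨h1, h2⟩ := hid
    exact ⟨by grind, by grind⟩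

/-- The orbit relation in normalised coordinates. -/
theorem normalised {s u : F} (hs0 : s ≠ 0) (hs1 : s ≠ 1) (hu1 : u ≠ 1)
    (hb : u * φ u * (1 + s * φ s) = s * φ s)
    (hP : P (1 + s, c + (c + 1) * (s * φ s) + s) = (1 + u, c + (c + 1) * (u * φ u) + u)) :
    ∃ κ, κ * ((1 + s) * (1 + φ s)) = c + (c + 1) * (s * φ s) + s ∧
      (P (1, κ)).1 = (1 + s) * (1 + u) ∧ (P (1, κ + 1)).1 = (1 + s) * (s + u) / s ^ 2 ∧
      κ + c ≠ 0 ∧ κ + c + 1 ≠ 0 ∧ s + u ≠ 0 := by
  have hw : (1 : F) + s ≠ 0 := by grind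
  have hu1' : (1 : F) + u ≠ 0 := by grind
  have hsu : s + u ≠ 0 := by
    intro e
    have : s = u := by grind
    subst this
    exact norm_ne_zero (φ := φ) hs0 (by grind)
  -- the orbit relation at `1/s`
  have hs0' : s⁻¹ ≠ 0 := inv_ne_zero hs0
  obtain ⟨u', -, -, hb', hP'⟩ := orbit h hs0' (by simpa using hs1)
  have hu' : u' = u / s := by
    refine norm_inj h ?_
    have hφs : φ s ≠ 0 := (map_ne_zero φ).mpr hs0
    have ha1 : (1 : F) + s * φ s ≠ 0 := fun e => by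
      rw [e, mul_zero] at hb
      exact norm_ne_zero (φ := φ) hs0 hb.symm
    rw [map_inv₀] at hb'
    rw [map_div₀]
    field_simp at hb' ⊢
    grind
  obtain ⟨κ, hκ⟩ : ∃ κ, κ = (c + (c + 1) * (s * φ s) + s) / ((1 + s) * φ (1 + s)) := ⟨_, rfl⟩
  have hφw : φ (1 + s) ≠ 0 := (map_ne_zero φ).mpr hw
  have e1 : ((1 + s, c + (c + 1) * (s * φ s) + s) : F × F) = scl φ (1 + s) (1, κ) := by
    simp only [scl, mul_one, hκ, Prod.mk.injEq, true_and]
    field_simp
  have e2 : scl φ s (1 + s⁻¹, c + (c + 1) * (s⁻¹ * φ s⁻¹) + s⁻¹) = scl φ (1 + s) (1, κ + 1) := by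
    have hφs : φ s ≠ 0 := (map_ne_zero φ).mpr hs0
    simp only [scl, mul_one, Prod.mk.injEq, hκ, map_inv₀]
    refine ⟨by field_simp; grind, ?_⟩
    rw [map_add, map_one] at hφw ⊢
    field_simp
    grind
  have hA : (P (1, κ)).1 = (1 + s) * (1 + u) := by
    have := h.scale _ hw (1, κ) (pair_ne_zero (Or.inl one_ne_zero))
    rw [← e1, hP] at this
    have h1 := congrArg Prod.fst this
    simp only [scl] at h1
    rw [eq_inv_mul_iff_mul_eq₀ hw] at h1
    exact h1.symm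
  have hA' : (P (1, κ + 1)).1 = (1 + s) * (s + u) / s ^ 2 := by
    have := h.scale _ hw (1, κ + 1) (pair_ne_zero (Or.inl one_ne_zero))
    have hne : ((1 + s⁻¹, c + (c + 1) * (s⁻¹ * φ s⁻¹) + s⁻¹) : F × F) ≠ 0 := by
      refine pair_ne_zero (Or.inl fun e => hs1 ?_)
      have : s * (1 + s⁻¹) = 0 := by rw [e, mul_zero]
      rw [mul_add, mul_inv_cancel₀ hs0] at this
      grind
    rw [← e2, h.scale _ hs0 _ hne, hP', hu'] at this
    have h1 := congrArg Prod.fst this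
    simp only [scl] at h1
    rw [eq_inv_mul_iff_mul_eq₀ hw] at h1
    rw [← h1]
    field_simp
  -- `κ` is neither `c` nor `c + 1`
  have hκc : κ + c ≠ 0 := by
    intro e
    have : κ = c := by grind
    rw [this, atR_inv h] at hA'
    exact div_ne_zero (mul_ne_zero hw hsu) (pow_ne_zero _ hs0) hA'.symm
  have hκc1 : κ + c + 1 ≠ 0 := by
    intro e
    have : κ = c + 1 := by grind
    rw [this, atR_inv h] at hA
    exact mul_ne_zero hw hu1' hA.symm
  refine ⟨κ, ?_, hA, hA', hκc, hκc1, hsu⟩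
  rw [map_add, map_one] at hφw hκ
  rw [hκ]
  field_simp

/-- Every element away from `GF(2)` yields a triple with `a = s φ(s)`, `b = u φ(u)`, `b(1+a) = a`
subject to the two quadratic factors. -/
theorem key_eq {s u : F} (hs0 : s ≠ 0) (hs1 : s ≠ 1) (hu1 : u ≠ 1)
    (hb : u * φ u * (1 + s * φ s) = s * φ s)
    (hP : P (1 + s, c + (c + 1) * (s * φ s) + s) = (1 + u, c + (c + 1) * (u * φ u) + u)) :
    (s + u + s * u) * (φ s + φ u + φ s * φ u) *
        ((s * φ s) ^ 4 * ((1 + u) * (1 + φ u)) + (s + u) * (φ s + φ u)) =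
      (s * φ s) ^ 2 * ((1 + s) * (1 + φ s)) * ((1 + u) * (1 + φ u)) * ((s + u) * (φ s + φ u)) := by
  have hk := k_eq_one h
  have hw : (1 : F) + s ≠ 0 := by grind
  have hu1' : (1 : F) + u ≠ 0 := by grind
  obtain ⟨κ, -, hA, hA', hκc, hκc1, hsu⟩ := normalised h hs0 hs1 hu1 hb hP
  obtain ⟨n, hn, hnX⟩ := exists_norm h hκc
  obtain ⟨n', hn', hnX'⟩ := exists_norm h hκc1
  have h1 := (central h hn).1
  rw [hnX, hk, mul_one, show c + 1 + (κ + c) = κ + 1 by grind, show c + (κ + c) = κ by grind,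
    hA, hA'] at h1
  have h2 := (central h hn').1
  rw [hnX', hk, mul_one, show c + 1 + (κ + c + 1) = κ by grind,
    show c + (κ + c + 1) = κ + 1 by grind, hA, hA'] at h2
  have hN : ∀ x : F, 1 + (1 + s) * (1 + x) = s + x + s * x := fun x => by grind
  have hn1 : n * ((1 + s) * (s + u)) = s ^ 2 * (s + u + s * u) := by
    field_simp at h1
    rw [hN] at h1
    linear_combination h1
  have hn2 : n' * (s ^ 2 * ((1 + s) * (1 + u))) = s + u + s * u := by
    field_simp at h2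
    linear_combination (norm := (ring_nf; simp [CharTwo.two_eq_zero])) h2
  have hsum : n * φ n + n' * φ n' = 1 := by rw [hnX, hnX']; grind
  have f1 := congrArg φ hn1
  have f2 := congrArg φ hn2
  simp only [map_mul, map_add, map_pow, map_one] at f1 f2
  calc (s + u + s * u) * (φ s + φ u + φ s * φ u) *
        ((s * φ s) ^ 4 * ((1 + u) * (1 + φ u)) + (s + u) * (φ s + φ u))
      = (s * φ s) ^ 2 * ((1 + u) * (1 + φ u)) *
          ((s ^ 2 * (s + u + s * u)) * (φ s ^ 2 * (φ s + φ u + φ s * φ u))) +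
          (s + u) * (φ s + φ u) * ((s + u + s * u) * (φ s + φ u + φ s * φ u)) := by ring
    _ = (s * φ s) ^ 2 * ((1 + u) * (1 + φ u)) *
          ((n * ((1 + s) * (s + u))) * (φ n * ((1 + φ s) * (φ s + φ u)))) +
          (s + u) * (φ s + φ u) * ((n' * (s ^ 2 * ((1 + s) * (1 + u)))) *
            (φ n' * (φ s ^ 2 * ((1 + φ s) * (1 + φ u))))) := by rw [hn1, hn2, f1, f2]
    _ = (n * φ n + n' * φ n') * ((s * φ s) ^ 2 * ((1 + s) * (1 + φ s)) * ((1 + u) * (1 + φ u)) *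
          ((s + u) * (φ s + φ u))) := by ring
    _ = _ := by rw [hsum, one_mul]

theorem factors {s : F} (hs0 : s ≠ 0) (hs1 : s ≠ 1) :
    ∃ u, u ≠ 0 ∧ u * φ u * (1 + s * φ s) = s * φ s ∧
      P (1 + s, c + (c + 1) * (s * φ s) + s) = (1 + u, c + (c + 1) * (u * φ u) + u) ∧
      ((1 + φ s * s ^ 2) * u = s * (1 + s * φ s) ∨
        (1 + s * φ s) ^ 2 * u = s * (1 + s * φ s ^ 2)) := by
  obtain ⟨u, hu0, hu1, hb, hP⟩ := orbit h hs0 hs1
  refine ⟨u, hu0, hb, hP, ?_⟩
  have hE := key_eq h hs0 hs1 hu1 hb hP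
  have hE' := key_eq h hu0 hu1 hs1 (by grind) (by
    rw [← hP, h.invol _ (pair_ne_zero (Or.inl (by grind)))])
  have hφs : φ s ≠ 0 := (map_ne_zero φ).mpr hs0
  have hφu : φ u ≠ 0 := (map_ne_zero φ).mpr hu0
  have hs' : (1 : F) + s ≠ 0 := by grind
  have hu' : (1 : F) + u ≠ 0 := by grind
  have hφs' : 1 + φ s ≠ 0 := by
    have := (map_ne_zero φ).mpr hs'
    rwa [map_add, map_one] at this
  have hφu' : 1 + φ u ≠ 0 := by
    have := (map_ne_zero φ).mpr hu'
    rwa [map_add, map_one] at this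
  have hsu : s + u ≠ 0 := by
    intro e
    have : s = u := by grind
    subst this
    exact norm_ne_zero (φ := φ) hs0 (by grind)
  have hφsu : φ s + φ u ≠ 0 := by
    have := (map_ne_zero φ).mpr hsu
    rwa [map_add] at this
  generalize φ s = S at *
  generalize φ u = U at *
  obtain ⟨a, ha⟩ : ∃ a, a = s * S := ⟨_, rfl⟩
  obtain ⟨b, hbd⟩ : ∃ b, b = u * U := ⟨_, rfl⟩
  rw [← ha, ← hbd] at hb
  have ha0 : a ≠ 0 := ha ▸ mul_ne_zero hs0 hφs
  have hb0 : b ≠ 0 := hbd ▸ mul_ne_zero hu0 hφu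
  rw [← ha] at hE
  rw [← hbd, show u + s + u * s = s + u + s * u by ring, show U + S + U * S = S + U + S * U by ring,
    show (u + s) * (U + S) = (s + u) * (S + U) by ring] at hE'
  generalize hWd : (1 + s) * (1 + S) = W at *
  generalize hβd : (1 + u) * (1 + U) = β at *
  generalize hΓd : (s + u) * (S + U) = Γ at *
  generalize hMd : (s + u + s * u) * (S + U + S * U) = M at *
  have hW : W ≠ 0 := hWd ▸ mul_ne_zero hs' hφs'
  have hβ : β ≠ 0 := hβd ▸ mul_ne_zero hu' hφu'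
  have hΓ : Γ ≠ 0 := hΓd ▸ mul_ne_zero hsu hφsu
  have hM : M ≠ 0 := by
    intro e
    rw [e, zero_mul] at hE
    exact mul_ne_zero (mul_ne_zero (mul_ne_zero (pow_ne_zero 2 ha0) hW) hβ) hΓ hE.symm
  have h3 : b ^ 2 * (a ^ 4 * β + Γ) = a ^ 2 * (b ^ 4 * W + Γ) := by
    refine mul_left_cancel₀ hM ?_
    calc M * (b ^ 2 * (a ^ 4 * β + Γ)) = b ^ 2 * (M * (a ^ 4 * β + Γ)) := by ring
      _ = a ^ 2 * (b ^ 2 * β * W * Γ) := by rw [hE]; ring
      _ = a ^ 2 * (M * (b ^ 4 * W + Γ)) := by rw [hE']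
      _ = M * (a ^ 2 * (b ^ 4 * W + Γ)) := by ring
  have h4 : Γ = a ^ 2 * β + b ^ 2 * W :=
    mul_left_cancel₀ (mul_ne_zero (pow_ne_zero 2 ha0) (pow_ne_zero 2 hb0))
      (gamma_aux (sq_rel hb) h3)
  rw [← hβd, ← hWd, ← hΓd] at h4
  have h5 := quad_aux ha hbd hb h4
  rw [← ha]
  rcases mul_eq_zero.mp h5 with h6 | h6
  · exact Or.inl (eq_of_add ((mul_eq_zero.mp h6).resolve_left hφs))
  · exact Or.inr (eq_of_add h6)

omit h in
theorem frob_of_left {s u : F} (hs0 : s ≠ 0) (hs1 : s ≠ 1) (hu : u ≠ 0)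
    (hb : u * φ u * (1 + s * φ s) = s * φ s)
    (hl : (1 + φ s * s ^ 2) * u = s * (1 + s * φ s)) : φ (φ s) = s ^ 2 := by
  have f1 := congrArg φ hl
  simp only [map_mul, map_add, map_pow, map_one] at f1
  have hS0 : φ s ≠ 0 := (map_ne_zero φ).mpr hs0
  have hU0 : φ u ≠ 0 := (map_ne_zero φ).mpr hu
  have hS1 : (1 : F) + φ s ≠ 0 := by
    intro e
    have : φ s = φ 1 := by rw [map_one]; grind
    exact hs1 (φ.injective this)
  generalize φ (φ s) = R at *
  generalize φ s = S at *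
  generalize φ u = U at *
  have h1 : s * S * ((1 + S * s ^ 2) * (1 + R * S ^ 2)) =
      s * S * ((1 + s * S) ^ 2 * (1 + S * R)) := by
    calc s * S * ((1 + S * s ^ 2) * (1 + R * S ^ 2))
        = (1 + s * S) * (((1 + S * s ^ 2) * u) * ((1 + R * S ^ 2) * U)) := by
          linear_combination -((1 + S * s ^ 2) * (1 + R * S ^ 2)) * hb
      _ = (1 + s * S) * ((s * (1 + s * S)) * (S * (1 + S * R))) := by rw [hl, f1]
      _ = _ := by ring
  have h2 := mul_left_cancel₀ (mul_ne_zero hs0 hS0) h1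
  have h3 : S * (1 + S) * (R + s ^ 2) = 0 := by grind
  have := (mul_eq_zero.mp h3).resolve_left (mul_ne_zero hS0 hS1)
  grind

omit h in
theorem frob_of_right {s u : F} (hs0 : s ≠ 0) (hs1 : s ≠ 1) (hu : u ≠ 0)
    (hb : u * φ u * (1 + s * φ s) = s * φ s)
    (hl : (1 + s * φ s) ^ 2 * u = s * (1 + s * φ s ^ 2)) : φ (φ s) ^ 2 = s := by
  have f1 := congrArg φ hl
  simp only [map_mul, map_add, map_pow, map_one] at f1
  have hS0 : φ s ≠ 0 := (map_ne_zero φ).mpr hs0
  have hU0 : φ u ≠ 0 := (map_ne_zero φ).mpr hu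
  have hS1 : (1 : F) + φ s ≠ 0 := by
    intro e
    have : φ s = φ 1 := by rw [map_one]; grind
    exact hs1 (φ.injective this)
  generalize φ (φ s) = R at *
  generalize φ s = S at *
  generalize φ u = U at *
  have h1 : s * S * ((1 + s * S) * (1 + S * R) ^ 2) =
      s * S * ((1 + s * S ^ 2) * (1 + S * R ^ 2)) := by
    calc s * S * ((1 + s * S) * (1 + S * R) ^ 2)
        = (1 + s * S) * (1 + S * R) ^ 2 * (u * U * (1 + s * S)) := by rw [hb]; ring
      _ = ((1 + s * S) ^ 2 * u) * ((1 + S * R) ^ 2 * U) := by ring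
      _ = (s * (1 + s * S ^ 2)) * (S * (1 + S * R ^ 2)) := by rw [hl, f1]
      _ = _ := by ring
  have h2 := mul_left_cancel₀ (mul_ne_zero hs0 hS0) h1
  have h3 : S * (1 + S) * (R ^ 2 + s) = 0 := by grind
  have := (mul_eq_zero.mp h3).resolve_left (mul_ne_zero hS0 hS1)
  grind

/-- `φ²` is the squaring map or its inverse. -/
theorem frob_cases : (∀ x, φ (φ x) = x ^ 2) ∨ ∀ x, φ (φ x) ^ 2 = x := by
  have hall : ∀ x, φ (φ x) = x ^ 2 ∨ φ (φ x) ^ 2 = x := by
    intro x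
    by_cases h0 : x = 0
    · subst h0; simp
    by_cases h1 : x = 1
    · subst h1; simp
    obtain ⟨u, hu, hb, -, hl | hl⟩ := factors h h0 h1
    · exact Or.inl (frob_of_left h0 h1 hu hb hl)
    · exact Or.inr (frob_of_right h0 h1 hu hb hl)
  by_contra hne
  simp only [not_or, not_forall] at hne
  obtain ⟨⟨x, hx⟩, ⟨y, hy⟩⟩ := hne
  have hx' := (hall x).resolve_left hx
  have hy' := (hall y).resolve_right hy
  rcases hall (x + y) with e | e
  · rw [map_add, map_add, hy'] at e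
    exact hx (by grind)
  · rw [map_add, map_add] at e
    refine hy ?_
    grind

variable (hσ : ∀ x, φ (φ x) = x ^ 2)
include hσ

omit h in
theorem fix_eq {x : F} (hx : φ x = x) : x = 0 ∨ x = 1 := by
  have := hσ x
  rw [hx, hx] at this
  have h2 : x * (x + 1) = 0 := by grind
  rcases mul_eq_zero.mp h2 with e | e
  · exact Or.inl e
  · right; grind

theorem c_eq_one (hF : ∃ s : F, s ≠ 0 ∧ s ≠ 1) : c = 1 := by
  obtain ⟨s, hs0, hs1⟩ := hF
  obtain ⟨u, hu, hb, hP, hl | hl⟩ := factors h hs0 hs1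
  swap
  · exfalso
    have := frob_of_right hs0 hs1 hu hb hl
    rw [hσ] at this
    have h3 : s * (s + 1) * (s ^ 2 + s + 1) = 0 := by grind
    have h4 := (mul_eq_zero.mp h3).resolve_left (mul_ne_zero hs0 (by grind))
    have h5 := congrArg φ h4
    simp only [map_add, map_pow, map_one, map_zero] at h5
    have h6 : (φ s + s) * (φ s + s + 1) = 0 := by grind
    rcases mul_eq_zero.mp h6 with e | e
    · rcases fix_eq hσ (x := s) (by grind) with e' | e' <;> [exact hs0 e'; exact hs1 e']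
    · have h7 : φ (φ s) = φ s + φ 1 := by rw [← map_add]; congr 1; grind
      rw [hσ, map_one] at h7
      grind
  have hw : (1 : F) + s ≠ 0 := by grind
  have hu1 : u ≠ 1 := by
    intro e
    rw [e, map_one] at hb
    grind
  obtain ⟨κ, hκ, hA, hA', hκc, -, hsu⟩ := normalised h hs0 hs1 hu1 hb hP
  obtain ⟨n, hn, hnX⟩ := exists_norm h hκc
  have h1 := (central h hn).1
  rw [hnX, k_eq_one h, mul_one, show c + 1 + (κ + c) = κ + 1 by grind,
    show c + (κ + c) = κ by grind, hA, hA'] at h1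
  field_simp at h1
  have hsS : s + φ s ≠ 0 := fun e => by
    rcases fix_eq hσ (x := s) (by grind) with e' | e' <;> [exact hs0 e'; exact hs1 e']
  have hS1 : 1 + φ s ≠ 0 := by
    have := (map_ne_zero φ).mpr hw
    rwa [map_add, map_one] at this
  have hS0 : φ s ≠ 0 := (map_ne_zero φ).mpr hs0
  have h2 : n * ((1 + s) * (s + u)) = s ^ 2 * (s + u + s * u) := by
    linear_combination (norm := (ring_nf; simp [CharTwo.two_eq_zero])) h1
  have hd : (1 + φ s * s ^ 2) * (s + u) = φ s * s ^ 2 * (1 + s) := by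
    linear_combination (norm := (ring_nf; simp [CharTwo.two_eq_zero])) hl
  have hdN : (1 + φ s * s ^ 2) * (s + u + s * u) = s ^ 2 * (1 + φ s) := by
    linear_combination (norm := (ring_nf; simp [CharTwo.two_eq_zero])) (1 + s) * hl
  have h3 : n * (φ s * (1 + s) ^ 2) = s ^ 2 * (1 + φ s) := by
    refine mul_left_cancel₀ (pow_ne_zero 2 hs0) ?_
    calc s ^ 2 * (n * (φ s * (1 + s) ^ 2)) = n * (1 + s) * (φ s * s ^ 2 * (1 + s)) := by ring
      _ = (1 + φ s * s ^ 2) * (n * ((1 + s) * (s + u))) := by rw [← hd]; ring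
      _ = (1 + φ s * s ^ 2) * (s ^ 2 * (s + u + s * u)) := by rw [h2]
      _ = s ^ 2 * ((1 + φ s * s ^ 2) * (s + u + s * u)) := by ring
      _ = s ^ 2 * (s ^ 2 * (1 + φ s)) := by rw [hdN]
  have f3 := congrArg φ h3
  simp only [map_mul, map_add, map_pow, map_one, hσ] at f3
  have h4 : (κ + c) * (1 + φ s) = φ s := by
    refine mul_left_cancel₀ (mul_ne_zero (mul_ne_zero (mul_ne_zero hS0 (pow_ne_zero 2 hw))
      (pow_ne_zero 2 hs0)) hS1) ?_
    calc φ s * (1 + s) ^ 2 * s ^ 2 * (1 + φ s) * ((κ + c) * (1 + φ s))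
        = (n * (φ s * (1 + s) ^ 2)) * (φ n * (s ^ 2 * (1 + φ s) ^ 2)) := by rw [← hnX]; ring
      _ = (s ^ 2 * (1 + φ s)) * (φ s ^ 2 * (1 + s ^ 2)) := by rw [h3, f3]
      _ = _ := by grind
  have h5 : (c + 1) * (s + φ s) = 0 := by grind
  have h6 := (mul_eq_zero.mp h5).resolve_right hsS
  grind

/-- The point map of the Suzuki group. -/
theorem formula (hc : c = 1) (u : F × F) (hu : u ≠ 0) :
    zf φ u ≠ 0 ∧ P u = (u.2 / zf φ u, u.1 / zf φ u) := by
  obtain ⟨x, y⟩ := u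
  subst hc
  have hk := k_eq_one h
  by_cases hx : x = 0
  · subst hx
    have hy : y ≠ 0 := fun e => hu (by simp [e])
    have hφy : φ y ≠ 0 := (map_ne_zero φ).mpr hy
    have hz : zf φ (0, y) = φ y := by simp [zf]
    refine ⟨hz ▸ hφy, ?_⟩
    obtain ⟨n, hn, hnn⟩ : ∃ n, n ≠ 0 ∧ n = φ y / y := ⟨_, div_ne_zero hφy hy, rfl⟩
    have hny : n * φ n = y := by rw [hnn, map_div₀, hσ]; field_simp
    have e : ((0, y) : F × F) = scl φ n (0, k) := by simp [scl, hk, hny]
    rw [hz]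
    conv_lhs => rw [e, h.scale n hn _ (pair_ne_zero (Or.inr h.k0)), h.atZ]
    simp [scl, hnn, CharTwo.add_self_eq_zero]
  obtain ⟨κ, hκ⟩ : ∃ κ, y = x * φ x * κ := ⟨y / (x * φ x), (mul_div_cancel₀ _ (norm_ne_zero hx)).symm⟩
  subst hκ
  have hφx : φ x ≠ 0 := (map_ne_zero φ).mpr hx
  have main : 1 + κ + φ κ ≠ 0 ∧ P (1, κ) = (κ / (1 + κ + φ κ), 1 / (1 + κ + φ κ)) := by
    by_cases h1 : κ = 1
    · subst h1
      rw [map_one, show (1 : F) + 1 + 1 = 1 by grind, h.fixR]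
      simp
    by_cases h0 : κ = 0
    · subst h0
      rw [map_zero, add_zero, add_zero, show P (1, (0 : F)) = (0, k) from by
        have := atR_inv h
        rwa [CharTwo.add_self_eq_zero] at this, hk]
      simp
    have hX : κ + 1 ≠ 0 := by grind
    have hE : κ + φ κ ≠ 0 := fun e => by
      rcases fix_eq hσ (x := κ) (by grind) with e' | e' <;> [exact h0 e'; exact h1 e']
    have hD : 1 + κ + φ κ ≠ 0 := by
      intro e
      have e2 := congrArg φ e
      simp only [map_add, map_one, map_zero, hσ] at e2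
      have : κ ^ 2 + κ = 0 := by grind
      have h3 : κ * (κ + 1) = 0 := by grind
      exact hX ((mul_eq_zero.mp h3).resolve_left h0)
    have hT : κ ^ 2 + κ + 1 ≠ 0 := by
      intro e
      have e2 := congrArg φ e
      simp only [map_add, map_pow, map_one, map_zero] at e2
      have h3 : (φ κ + κ) * (φ κ + κ + 1) = 0 := by grind
      rcases mul_eq_zero.mp h3 with e' | e' <;> grind
    refine ⟨hD, ?_⟩
    have hφX : φ κ + 1 ≠ 0 := by
      have := (map_ne_zero φ).mpr hX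
      rwa [map_add, map_one] at this
    have hφ0 : φ κ ≠ 0 := (map_ne_zero φ).mpr h0
    obtain ⟨n, hn⟩ : ∃ n, n = (φ κ + 1) / (κ + 1) := ⟨_, rfl⟩
    obtain ⟨n', hn'⟩ : ∃ n', n' = φ κ / κ := ⟨_, rfl⟩
    have hnX : n * φ n = κ + 1 := by
      rw [hn, map_div₀, map_add, map_add, map_one, hσ]
      field_simp
      grind
    have hnX' : n' * φ n' = κ := by
      rw [hn', map_div₀, hσ]
      field_simp
    obtain ⟨hA1, hB1⟩ := central h (hn ▸ div_ne_zero hφX hX : n ≠ 0)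
    obtain ⟨hA2, hB2⟩ := central h (hn' ▸ div_ne_zero hφ0 h0 : n' ≠ 0)
    rw [hnX, hk, mul_one, show (1 : F) + 1 + (κ + 1) = κ + 1 by grind,
      show (1 : F) + (κ + 1) = κ by grind] at hA1 hB1
    rw [hnX', hk, mul_one, show (1 : F) + 1 + κ = κ by grind,
      show (1 : F) + κ = κ + 1 by grind] at hA2 hB2
    generalize P (1, κ) = q at *
    generalize P (1, κ + 1) = q' at *
    obtain ⟨A, B⟩ := q
    obtain ⟨A', B'⟩ := q'
    simp only [hn, hn'] at hA1 hA2 hB1 hB2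
    field_simp at hA1 hA2
    have hA3 : A * ((κ + φ κ) * (1 + κ + φ κ)) = κ * (κ + φ κ) := by
      linear_combination (norm := (ring_nf; simp [CharTwo.two_eq_zero])) (φ κ + 1) * hA2 + κ * hA1
    have hA : A * (1 + κ + φ κ) = κ := mul_left_cancel₀ hE (by linear_combination hA3)
    have hA'3 : A' * (1 + κ + φ κ) = κ + 1 := mul_left_cancel₀ hφX (by
      linear_combination (norm := (ring_nf; simp [CharTwo.two_eq_zero])) (1 + κ + φ κ) * hA1 + (κ + 1) * hA)
    have hB : B * (1 + κ + φ κ) = 1 := mul_left_cancel₀ hT (by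
      linear_combination (norm := (ring_nf; simp [CharTwo.two_eq_zero, show (4 : F) = 0 by grind, show (8 : F) = 0 by grind])) (1 + κ + φ κ) * ((κ + 1) * hB2 + hB1) + hA + (κ + 1) * hA'3)
    rw [Prod.mk.injEq, eq_div_iff hD, eq_div_iff hD]
    exact ⟨hA, hB⟩
  obtain ⟨hD, hPκ⟩ := main
  have hz : zf φ (x, x * φ x * κ) = x ^ 2 * φ x * (1 + κ + φ κ) := by
    simp only [zf, map_mul, hσ]
    ring
  refine ⟨by rw [hz]; exact mul_ne_zero (mul_ne_zero (pow_ne_zero _ hx) hφx) hD, ?_⟩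
  have e : ((x, x * φ x * κ) : F × F) = scl φ x (1, κ) := by simp [scl]
  rw [hz]
  conv_lhs => rw [e, h.scale x hx _ (pair_ne_zero (Or.inl one_ne_zero)), hPκ]
  simp only [scl, map_inv₀, Prod.mk.injEq]
  constructor <;> field_simp

end Cfsg.Agent.Lib.RankOneIdent.Suzuki
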