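import Cfsg.Agent.Lib.Suzuki2.TypeA
import Cfsg.Agent.Lib.RankOneIdent.Suzuki.Field

/-!
# Torus-equivariant coordinates on a Suzuki 2-group of order `q ^ 2`

Owner: helper73. The first half follows `Suzuki2.TypeA.typeA_of_card_sq` (helper30), keeping track
of the automorphism group; the coordinate on `P` is then averaged over it.
-/

set_option autoImplicit false
set_option linter.unusedSectionVars false
set_option linter.style.haveILetI false

namespace Cfsg.Agent.Lib.RankOneIdent.Suzuki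

open Cfsg.Agent.Lib.Suzuki2 Cfsg.Agent.Lib.Suzuki2.Basic Cfsg.Agent.Lib.Suzuki2.TypeA
open scoped commutatorElement

universe u

/-- Coordinates in which `K` acts by the torus. -/
structure Coords (P : Type u) [Group P] (K : Subgroup (MulAut P)) (F : Type) [Field F]
    (φ : F ≃+* F) where
  /-- The coordinates. -/
  pos : P ≃ F × F
  map_mul : ∀ a b, pos (a * b) = mulc φ (pos a) (pos b)
  /-- The scalar of an automorphism. -/
  lam : K → F
  lam_ne : ∀ k, lam k ≠ 0
  lam_surj : ∀ l, l ≠ 0 → ∃ k, lam k = l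
  equi : ∀ (k : K) a, pos ((k : MulAut P) a) = scl φ (lam k) (pos a)

/-- The field-valued coordinates modulo and on the centre. -/
structure PreCoords (P : Type u) [Group P] (K : Subgroup (MulAut P)) (F : Type) [Field F]
    (φ : F ≃+* F) where
  /-- coordinate on `P / Z(P)` -/
  κ : P → F
  /-- coordinate on `Z(P)` -/
  ι : P → F
  κ_mul : ∀ a b, κ (a * b) = κ a + κ b
  κ_eq_zero : ∀ a, κ a = 0 ↔ a ∈ Subgroup.center P
  κ_surj : Function.Surjective κ
  ι_mul : ∀ a b, a ∈ Subgroup.center P → b ∈ Subgroup.center P → ι (a * b) = ι a + ι b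
  ι_inj : ∀ a b, a ∈ Subgroup.center P → b ∈ Subgroup.center P → ι a = ι b → a = b
  sq_mem : ∀ a, a * a ∈ Subgroup.center P
  ι_sq : ∀ a, ι (a * a) = φ (κ a) * κ a
  /-- The scalar of an automorphism. -/
  lam : K → F
  lam_ne : ∀ k, lam k ≠ 0
  lam_surj : ∀ l, l ≠ 0 → ∃ k, lam k = l
  κ_equi : ∀ (k : K) a, κ ((k : MulAut P) a) = lam k * κ a
  ι_equi : ∀ (k : K) z, z ∈ Subgroup.center P →
    ι ((k : MulAut P) z) = lam k * φ (lam k) * ι z

variable {P : Type u} [Group P] [Finite P]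

theorem exists_preCoords (hP : IsPGroup 2 P) (K : Subgroup (MulAut P)) (hK : TransInvol K)
    (hnc : ∃ x y : P, x * y ≠ y * x)
    (hcard : Nat.card P = Nat.card (Subgroup.center P) ^ 2) :
    ∃ (F : Type) (_ : Field F) (_ : Fintype F) (_ : CharP F 2) (φ : F ≃+* F),
      Fintype.card F = Nat.card (Subgroup.center P) ∧ (∃ x, φ x ≠ x) ∧
      Nonempty (PreCoords P K F φ) := by
  classical
  haveI : Fact (Nat.Prime 2) := ⟨Nat.prime_two⟩
  let A := P ⧸ Subgroup.center P
  have hzsq : ∀ z ∈ Subgroup.center P, z * z = 1 := fun z hz => center_sq_eq_one hP hK hnc hz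
  obtain ⟨x₁, y₁, hxy⟩ := hnc
  have hx1 : x₁ ∉ Subgroup.center P := fun h => hxy (Subgroup.mem_center_iff.1 h y₁).symm
  haveI : Nontrivial A := ⟨⟨(x₁ : A), 1, fun h => hx1 ((QuotientGroup.eq_one_iff _).1 h)⟩⟩
  have hPA : IsPGroup 2 A := hP.to_quotient _
  haveI := hPA.center_nontrivial
  obtain ⟨⟨u, hu⟩, hu1⟩ := exists_ne (1 : Subgroup.center A)
  obtain ⟨j, hj1, hj⟩ := exists_involution_pow hPA (x := u) fun h => hu1 (Subtype.ext h)
  obtain ⟨w, hw⟩ := QuotientGroup.mk_surjective (u ^ 2 ^ j)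
  rw [← hw] at hj1 hj
  have hwc : (w : A) ∈ Subgroup.center A := hw ▸ Subgroup.pow_mem _ hu (2 ^ j)
  rw [Ne, QuotientGroup.eq_one_iff] at hj1
  rw [← QuotientGroup.mk_mul, QuotientGroup.eq_one_iff] at hj
  set i₀ := w * w with hi₀
  have hi₀1 : i₀ ≠ 1 := fun h => hj1 (involution_central hP hK h)
  have hi₀2 : i₀ * i₀ = 1 := hzsq _ hj
  -- all cosets are translates of that of `w`
  have hsame : ∀ a b : P, (a : A) = (b : A) → a * a = b * b := by
    intro a b h
    rw [QuotientGroup.eq] at h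
    have hz := hzsq _ h
    calc a * a = a * a * (a⁻¹ * b * (a⁻¹ * b)) := by rw [hz, mul_one]
      _ = a * (a * (a⁻¹ * b) * (a⁻¹ * b)) := by group
      _ = a * ((a⁻¹ * b) * a * (a⁻¹ * b)) := by rw [Subgroup.mem_center_iff.1 h a]
      _ = b * b := by group
  choose kk hkk hkk' using fun z : {z : P // z ∈ Subgroup.center P ∧ z ≠ 1} =>
    hK.trans i₀ z.1 hi₀1 hi₀2 z.2.2 (hzsq _ z.2.1)
  have hcardA : Nat.card A = Nat.card (Subgroup.center P) := by
    have := Subgroup.card_eq_card_quotient_mul_card_subgroup (Subgroup.center P)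
    rw [hcard, sq] at this
    exact (Nat.eq_of_mul_eq_mul_right Nat.card_pos this).symm
  let Ψ : {z : P // z ∈ Subgroup.center P ∧ z ≠ 1} → {a : A // a ≠ 1} := fun z =>
    ⟨((kk z w : P) : A), fun h => z.2.2 (by
      rw [QuotientGroup.eq_one_iff] at h
      rw [← hkk' z, hi₀, map_mul]
      exact hzsq _ h)⟩
  have hΨ : Function.Bijective Ψ := by
    have hinj : Function.Injective Ψ := fun z z' h => by
      apply Subtype.ext
      rw [← hkk' z, ← hkk' z', hi₀, map_mul, map_mul]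
      exact hsame _ _ (congrArg Subtype.val h)
    letI := Fintype.ofFinite P
    letI := Fintype.ofFinite A
    refine (Fintype.bijective_iff_injective_and_card Ψ).2 ⟨hinj, ?_⟩
    rw [Fintype.card_subtype_compl, Fintype.card_subtype_eq]
    rw [show Fintype.card {z : P // z ∈ Subgroup.center P ∧ z ≠ 1} =
      Fintype.card {z : Subgroup.center P // z ≠ 1} from Fintype.card_congr
        ⟨fun z => ⟨⟨z.1, z.2.1⟩, fun h => z.2.2 (congrArg Subtype.val h)⟩,
          fun z => ⟨z.1.1, z.1.2, fun h => z.2 (Subtype.ext h)⟩, fun _ => rfl, fun _ => rfl⟩,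
      Fintype.card_subtype_compl, Fintype.card_subtype_eq, ← Nat.card_eq_fintype_card,
      ← Nat.card_eq_fintype_card, hcardA]
  have cover : ∀ a : A, a ≠ 1 → ∃ k ∈ K, quotAut P k (w : A) = a := fun a ha => by
    obtain ⟨z, hz⟩ := hΨ.2 ⟨a, ha⟩
    exact ⟨kk z, hkk z, congrArg Subtype.val hz⟩
  have hAc : ∀ a : A, a ∈ Subgroup.center A ∧ a * a = 1 := by
    intro a
    by_cases ha : a = 1
    · simp [ha]
    · obtain ⟨k, hk, rfl⟩ := cover a ha
      refine ⟨?_, by rw [← map_mul, ← QuotientGroup.mk_mul, (QuotientGroup.eq_one_iff _).2 hj, map_one]⟩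
      rw [Subgroup.mem_center_iff]
      intro b
      rw [← (quotAut P k).apply_symm_apply b, ← map_mul, Subgroup.mem_center_iff.1 hwc, map_mul]
  have h2A : ∀ a : A, a * a = 1 := fun a => (hAc a).2
  have hsqmem : ∀ a : P, a * a ∈ Subgroup.center P := fun a => by
    rw [← QuotientGroup.eq_one_iff, QuotientGroup.mk_mul]; exact h2A _
  obtain ⟨n, hn⟩ := IsPGroup.iff_card.1 (hP.to_subgroup (Subgroup.center P))
  have hn0 : n ≠ 0 := fun h => by
    rw [h, pow_zero] at hn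
    rw [hn] at hcardA
    exact absurd hcardA (Finite.one_lt_card (α := A)).ne'
  have htransA : ∀ a b : A, a ≠ 1 → b ≠ 1 → ∃ k ∈ K.map (quotAut P), k a = b := by
    intro a b ha hb
    obtain ⟨k, hk, rfl⟩ := cover a ha
    obtain ⟨l, hl, rfl⟩ := cover b hb
    refine ⟨quotAut P (l * k⁻¹), Subgroup.mem_map_of_mem _ (K.mul_mem hl (K.inv_mem hk)), ?_⟩
    rw [← MulAut.mul_apply, ← map_mul, inv_mul_cancel_right]
  obtain ⟨κ₀, hκb, hκm, hκ1, hκw, hκk⟩ := Suzuki2.FieldModel.field_model hn0 (hcardA.trans hn) h2A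
    (K.map (quotAut P))
    (by rintro _ ⟨k, hk, rfl⟩ _ ⟨l, hl, rfl⟩; rw [← map_mul, hK.comm k hk l hl, map_mul])
    htransA (a₀ := (w : A)) (fun h => hj1 ((QuotientGroup.eq_one_iff _).1 h))
  -- the centre
  let res : MulAut P → MulAut (Subgroup.center P) := fun k =>
    { toFun := fun z => ⟨k z, apply_center k z.2⟩
      invFun := fun z => ⟨k⁻¹ z, apply_center k⁻¹ z.2⟩
      left_inv := fun z => Subtype.ext (k.symm_apply_apply z)
      right_inv := fun z => Subtype.ext (k.apply_symm_apply z)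
      map_mul' := fun z z' => Subtype.ext (map_mul k z.1 z'.1) }
  let resH : MulAut P →* MulAut (Subgroup.center P) :=
    { toFun := res
      map_one' := by ext; rfl
      map_mul' := fun _ _ => by ext; rfl }
  obtain ⟨ι₀, hιb, hιm, hι1, hιi, hιk⟩ := Suzuki2.FieldModel.field_model hn0 hn
    (fun z => Subtype.ext (hzsq z.1 z.2)) (K.map resH)
    (by rintro _ ⟨k, hk, rfl⟩ _ ⟨l, hl, rfl⟩; rw [← map_mul, hK.comm k hk l hl, map_mul])
    (fun a b ha hb => by
      obtain ⟨k, hk, hkab⟩ := hK.trans a.1 b.1 (fun h => ha (Subtype.ext h)) (hzsq _ a.2)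
        (fun h => hb (Subtype.ext h)) (hzsq _ b.2)
      exact ⟨resH k, Subgroup.mem_map_of_mem _ hk, Subtype.ext hkab⟩)
    (a₀ := (⟨i₀, hj⟩ : Subgroup.center P)) (fun h => hi₀1 (congrArg Subtype.val h))
  let F := GaloisField 2 n
  let κ : P → F := fun a => κ₀ a
  let ι : P → F := fun a => if h : a ∈ Subgroup.center P then ι₀ ⟨a, h⟩ else 0
  have hι : ∀ (a : P) (h : a ∈ Subgroup.center P), ι a = ι₀ ⟨a, h⟩ := fun a h => dif_pos h
  have κmul : ∀ a b, κ (a * b) = κ a + κ b := fun a b => by show κ₀ _ = _; rw [QuotientGroup.mk_mul]; exact hκm _ _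
  have κsurj : Function.Surjective κ := hκb.2.comp QuotientGroup.mk_surjective
  let Q : F → F := fun u => ι (Function.surjInv κsurj u * Function.surjInv κsurj u)
  have hQ : ∀ a, Q (κ a) = ι (a * a) := fun a =>
    congrArg ι (hsame _ _ (hκb.1 (Function.surjInv_eq κsurj (κ a))))
  have ιk : ∀ k ∈ K, ∀ z ∈ Subgroup.center P, ι (k z) = ι (k i₀) * ι z := fun k hk z hz => by
    rw [hι _ (apply_center k hz), hι _ (apply_center k hj), hι _ hz]
    exact hιk _ (Subgroup.mem_map_of_mem resH hk) ⟨z, hz⟩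
  have κk : ∀ k ∈ K, ∀ a : P, κ (k a) = κ (k w) * κ a := fun k hk a =>
    hκk _ (Subgroup.mem_map_of_mem _ hk) (a : A)
  have hQ1 : Q 1 = 1 := by
    rw [← show κ w = 1 from hκw, hQ, ← hi₀, hι _ hj, hιi]; exact hκw.symm
  have hQ0 : Q 0 = 0 := by
    rw [← show κ 1 = 0 from hκ1, hQ, one_mul, hι _ (Subgroup.one_mem _)]
    exact hι1.trans hκ1.symm
  have hQmul : ∀ u v, Q (u * v) = Q u * Q v := by
    intro u v
    by_cases hu0 : u = 0
    · rw [hu0, zero_mul, hQ0, zero_mul]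
    obtain ⟨a, rfl⟩ := κsurj u
    obtain ⟨b, rfl⟩ := κsurj v
    obtain ⟨k, hk, hkw⟩ := cover a (fun h => hu0 (by show κ₀ a = 0; rw [h, hκ1]))
    have e : κ a = κ (k w) := congrArg κ₀ hkw.symm
    rw [e, ← κk k hk b, hQ, hQ, hQ, ← map_mul, ιk k hk _ (hsqmem b), ← map_mul, ← hi₀]
  have hι2 : ∀ a b, a ∈ Subgroup.center P → b ∈ Subgroup.center P → ι (a * b) = ι a + ι b := by
    intro a b ha hb
    rw [hι _ (Subgroup.mul_mem _ ha hb), hι _ ha, hι _ hb]
    exact hιm ⟨a, ha⟩ ⟨b, hb⟩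
  have hcm : ∀ a b : P, ⁅a, b⁆ ∈ Subgroup.center P := fun a => mk_mem_center_iff.1 (hAc _).1
  have hpol : ∀ a b, Q (κ a + κ b) = Q (κ a) + Q (κ b) + ι ⁅b, a⁆ := by
    intro a b
    rw [← κmul, hQ, hQ, hQ,
      show a * b * (a * b) = a * (⁅b, a⁆ * a) * b * b by simp only [commutatorElement_def]; group,
      show ⁅b, a⁆ * a = a * ⁅b, a⁆ from (Subgroup.mem_center_iff.1 (hcm b a) a).symm,
      show a * (a * ⁅b, a⁆) * b * b = (a * a) * ⁅b, a⁆ * (b * b) by group,
      hι2 _ _ (Subgroup.mul_mem _ (hsqmem a) (hcm b a)) (hsqmem b), hι2 _ _ (hsqmem a) (hcm b a)]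
    abel
  have hquad : ∀ x y z : F,
      Q (x + y + z) + Q (x + y) + Q (x + z) + Q (y + z) + Q x + Q y + Q z = 0 := by
    intro x y z
    obtain ⟨a, rfl⟩ := κsurj x
    obtain ⟨b, rfl⟩ := κsurj y
    obtain ⟨c, rfl⟩ := κsurj z
    rw [← κmul a b, hpol, κmul, hpol a b, hpol a c, hpol b c,
      show ι ⁅c, a * b⁆ = ι ⁅c, a⁆ + ι ⁅c, b⁆ by
        rw [← hι2 _ _ (hcm c a) (hcm c b)]
        congr 1
        rw [← commutatorElement_inv (a * b) c, comm_elem_mul_left (hcm b c), mul_inv_rev,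
          commutatorElement_inv, commutatorElement_inv, Subgroup.mem_center_iff.1 (hcm c a)]]
    have h2F : ∀ u : F, u + u = 0 := CharTwo.add_self_eq_zero
    linear_combination 2 * (h2F (Q (κ a))) + 2 * (h2F (Q (κ b))) + 2 * h2F (Q (κ c)) +
      h2F (ι ⁅b, a⁆) + h2F (ι ⁅c, a⁆) + h2F (ι ⁅c, b⁆) - (h2F (Q (κ a)) + h2F (Q (κ b)) + h2F (Q (κ c))) * 0
  obtain ⟨σ, τ, hστ⟩ := mul_of_quadratic Q hQ0 hQ1 hQmul hquad
  have hQinj : ∀ u, Q u = 1 → u = 1 := by
    intro u hu'
    obtain ⟨a, rfl⟩ := κsurj u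
    have ha : (a : A) ≠ 1 := fun h => by
      rw [show κ a = 0 from (congrArg κ₀ h).trans hκ1, hQ0] at hu'
      exact zero_ne_one hu'
    obtain ⟨z, hz⟩ := hΨ.2 ⟨a, ha⟩
    have hz' : ((kk z w : P) : A) = a := congrArg Subtype.val hz
    have e : a * a = z.1 := by rw [← hsame _ _ hz', ← map_mul, ← hi₀, hkk' z]
    have ezz : z.1 = i₀ := by
      rw [hQ, e, hι _ z.2.1] at hu'
      exact congrArg Subtype.val (hιb.1 (hu'.trans hιi.symm))
    have hfix : (kk z) i₀ = i₀ := (hkk' z).trans ezz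
    have h1 : κ (kk z w) = κ a := congrArg κ₀ hz'
    -- the coset of `w` is the only one squaring to `i₀`
    obtain ⟨z', hz''⟩ := hΨ.2 ⟨(w : A), fun h => hj1 ((QuotientGroup.eq_one_iff _).1 h)⟩
    have hz3 : ((kk z' w : P) : A) = (w : A) := congrArg Subtype.val hz''
    have : z' = z := Subtype.ext (by
      rw [← hkk' z', hi₀, map_mul, hsame _ _ hz3, ← hi₀, ezz])
    rw [← h1, ← this]
    exact (congrArg κ₀ hz3).trans hκw
  let φ : F ≃+* F := τ.trans σ.symm
  have hφ : ∀ x, σ (x * φ x) = Q x := fun x => by simp [φ, hστ, map_mul]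
  letI : Fintype F := Fintype.ofFinite F
  have hφ1 : ∃ x, φ x ≠ x := by
    by_contra hno
    simp only [not_exists, not_not] at hno
    apply hxy
    have hadd : ∀ a b, ι ⁅b, a⁆ = 0 := fun a b => by
      have h' := hpol a b
      rw [← hφ (κ a + κ b), ← hφ (κ a), ← hφ (κ b), hno, hno, hno, ← map_add] at h'
      rw [show (κ a + κ b) * (κ a + κ b) = κ a * κ a + κ b * κ b by
        linear_combination (CharTwo.add_self_eq_zero (κ a * κ b))] at h'
      linear_combination -h'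
    rw [← commutatorElement_eq_one_iff_mul_comm]
    have := hadd y₁ x₁
    rw [hι _ (hcm x₁ y₁)] at this
    exact congrArg Subtype.val (hιb.1 (this.trans hι1.symm))
  have hκ0 : ∀ a, κ a = 0 ↔ a ∈ Subgroup.center P := fun a =>
    ⟨fun h => (QuotientGroup.eq_one_iff a).1 (hκb.1 (h.trans hκ1.symm)),
      fun h => (congrArg κ₀ ((QuotientGroup.eq_one_iff a).2 h)).trans hκ1⟩
  refine ⟨F, inferInstance, inferInstance, inferInstance, φ, ?_, hφ1, ⟨{
    κ := κ
    ι := fun a => σ.symm (ι a)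
    κ_mul := κmul
    κ_eq_zero := hκ0
    κ_surj := κsurj
    ι_mul := fun a b ha hb => by rw [← map_add, hι2 a b ha hb]
    ι_inj := fun a b ha hb e => by
      have := σ.symm.injective e
      rw [hι _ ha, hι _ hb] at this
      exact congrArg Subtype.val (hιb.1 this)
    sq_mem := hsqmem
    ι_sq := fun a => by rw [← hQ, ← hφ, σ.symm_apply_apply, mul_comm]
    lam := fun k => κ ((k : MulAut P) w)
    lam_ne := fun k e => by
      rw [hκ0] at e
      refine hj1 ?_
      have := apply_center (k : MulAut P)⁻¹ e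
      rwa [show (k : MulAut P)⁻¹ ((k : MulAut P) w) = w from (k : MulAut P).symm_apply_apply w] at this
    lam_surj := fun l hl => by
      obtain ⟨a, rfl⟩ := κsurj l
      obtain ⟨k, hk, hkw⟩ := cover a (fun h => hl (by show κ₀ a = 0; rw [h, hκ1]))
      exact ⟨⟨k, hk⟩, congrArg κ₀ hkw⟩
    κ_equi := fun k a => κk k k.2 a
    ι_equi := fun k z hz => by
      rw [ιk k k.2 z hz, map_mul σ.symm]
      congr 1
      rw [hi₀, map_mul, ← hQ, ← hφ, σ.symm_apply_apply] }⟩⟩
  rw [← Nat.card_eq_fintype_card, GaloisField.card 2 n hn0, hn]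

/-- The pairs `(a, y)` with the product twisted by the cocycle `φ(κ a) κ b`. -/
structure Tw {K : Subgroup (MulAut P)} {F : Type} [Field F] {φ : F ≃+* F}
    (_C : PreCoords P K F φ) where
  /-- group component -/
  g : P
  /-- field component -/
  y : F

variable {K : Subgroup (MulAut P)} {F : Type} [Field F] {φ : F ≃+* F} (C : PreCoords P K F φ)

theorem κ_one : C.κ 1 = 0 := (C.κ_eq_zero 1).2 (Subgroup.one_mem _)

theorem κ_inv [CharP F 2] (a : P) : C.κ a⁻¹ = C.κ a := by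
  have h := C.κ_mul a⁻¹ a
  rw [inv_mul_cancel, κ_one] at h
  exact CharTwo.add_eq_zero.mp h.symm

theorem ι_one : C.ι 1 = 0 := by
  have h := C.ι_mul 1 1 (Subgroup.one_mem _) (Subgroup.one_mem _)
  simpa using h

theorem Tw.eq {p q : Tw C} (h1 : p.g = q.g) (h2 : p.y = q.y) : p = q := by
  cases p; cases q; cases h1; cases h2; rfl

instance [CharP F 2] : Group (Tw C) where
  mul p q := ⟨p.g * q.g, p.y + q.y + φ (C.κ p.g) * C.κ q.g⟩
  one := ⟨1, 0⟩
  inv p := ⟨p.g⁻¹, p.y + φ (C.κ p.g) * C.κ p.g⟩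
  mul_assoc p q r := Tw.eq C (mul_assoc _ _ _) (by
    show p.y + q.y + φ (C.κ p.g) * C.κ q.g + r.y + φ (C.κ (p.g * q.g)) * C.κ r.g =
      p.y + (q.y + r.y + φ (C.κ q.g) * C.κ r.g) + φ (C.κ p.g) * C.κ (q.g * r.g)
    rw [C.κ_mul, C.κ_mul, map_add]; ring)
  one_mul p := Tw.eq C (one_mul _) (by
    show (0 : F) + p.y + φ (C.κ 1) * C.κ p.g = p.y
    rw [κ_one, map_zero]; ring)
  mul_one p := Tw.eq C (mul_one _) (by
    show p.y + 0 + φ (C.κ p.g) * C.κ 1 = p.y
    rw [κ_one]; ring)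
  inv_mul_cancel p := Tw.eq C (inv_mul_cancel _) (by
    show p.y + φ (C.κ p.g) * C.κ p.g + p.y + φ (C.κ p.g⁻¹) * C.κ p.g = 0
    rw [κ_inv]; grind)

theorem exists_beta [CharP F 2] :
    ∃ β : P → F, (∀ a b, β (a * b) = β a + β b + φ (C.κ a) * C.κ b) ∧
      ∀ z ∈ Subgroup.center P, β z = C.ι z := by
  classical
  let E := Tw C
  let Δ : Subgroup E :=
    { carrier := {p | p.g ∈ Subgroup.center P ∧ p.y = C.ι p.g}
      one_mem' := ⟨Subgroup.one_mem _, (ι_one C).symm⟩
      mul_mem' := by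
        rintro p q ⟨hp, hp'⟩ ⟨hq, hq'⟩
        refine ⟨Subgroup.mul_mem _ hp hq, ?_⟩
        show p.y + q.y + φ (C.κ p.g) * C.κ q.g = C.ι (p.g * q.g)
        rw [C.ι_mul _ _ hp hq, hp', hq', (C.κ_eq_zero _).2 hp, map_zero, zero_mul, add_zero]
      inv_mem' := by
        rintro p ⟨hp, hp'⟩
        refine ⟨Subgroup.inv_mem _ hp, ?_⟩
        show p.y + φ (C.κ p.g) * C.κ p.g = C.ι p.g⁻¹
        rw [(C.κ_eq_zero _).2 hp, mul_zero, add_zero, hp']
        have h := C.ι_mul _ _ hp (Subgroup.inv_mem _ hp)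
        rw [mul_inv_cancel, ι_one] at h
        exact CharTwo.add_eq_zero.mp h.symm }
  have hcen : ∀ d ∈ Δ, ∀ p : E, p * d = d * p := by
    rintro d ⟨hd, -⟩ p
    refine Tw.eq C (Subgroup.mem_center_iff.1 hd p.g) ?_
    show p.y + d.y + φ (C.κ p.g) * C.κ d.g = d.y + p.y + φ (C.κ d.g) * C.κ p.g
    rw [(C.κ_eq_zero _).2 hd, map_zero]; ring
  haveI : Δ.Normal := ⟨fun d hd p => by rw [hcen d hd p, mul_inv_cancel_right]; exact hd⟩
  have hsq : ∀ q : E ⧸ Δ, q * q = 1 := by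
    intro q
    induction q using QuotientGroup.induction_on with
    | H p =>
      rw [← QuotientGroup.mk_mul, QuotientGroup.eq_one_iff]
      refine ⟨C.sq_mem p.g, ?_⟩
      show p.y + p.y + φ (C.κ p.g) * C.κ p.g = C.ι (p.g * p.g)
      rw [C.ι_sq, CharTwo.add_self_eq_zero, zero_add]
  have hinv : ∀ q : E ⧸ Δ, q⁻¹ = q := fun q => inv_eq_of_mul_eq_one_right (hsq q)
  letI : CommGroup (E ⧸ Δ) :=
    { (inferInstance : Group (E ⧸ Δ)) with
      mul_comm := fun p q => by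
        calc p * q = (p * q)⁻¹ := (hinv _).symm
          _ = q⁻¹ * p⁻¹ := mul_inv_rev p q
          _ = q * p := by rw [hinv, hinv] }
  letI : Module (ZMod 2) (Additive (E ⧸ Δ)) :=
    AddCommGroup.zmodModule fun q => by rw [two_nsmul]; exact hsq q.toMul
  letI : Algebra (ZMod 2) F := ZMod.algebra F 2
  let j₀ : F →+ Additive (E ⧸ Δ) :=
    { toFun := fun y => Additive.ofMul ((⟨1, y⟩ : E) : E ⧸ Δ)
      map_zero' := rfl
      map_add' := fun y z => by
        rw [← ofMul_mul, ← QuotientGroup.mk_mul]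
        refine congrArg (fun e : E => Additive.ofMul (e : E ⧸ Δ)) (Tw.eq C (one_mul 1).symm ?_)
        show y + z = y + z + φ (C.κ 1) * C.κ 1
        rw [κ_one, mul_zero, add_zero] }
  let j := AddMonoidHom.toZModLinearMap 2 j₀
  have hj : LinearMap.ker j = ⊥ := by
    rw [LinearMap.ker_eq_bot']
    intro y hy
    have : ((⟨1, y⟩ : E) : E ⧸ Δ) = 1 := hy
    rw [QuotientGroup.eq_one_iff] at this
    exact this.2.trans (ι_one C)
  obtain ⟨π, hπ⟩ := j.exists_leftInverse_of_injective hj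
  have hπj : ∀ y, π (j y) = y := fun y => LinearMap.congr_fun hπ y
  refine ⟨fun a => π (Additive.ofMul ((⟨a, 0⟩ : E) : E ⧸ Δ)), fun a b => ?_, fun z hz => ?_⟩
  · have e : (⟨a, 0⟩ : E) * ⟨b, 0⟩ = ⟨a * b, 0⟩ * ⟨1, φ (C.κ a) * C.κ b⟩ := Tw.eq C (mul_one _).symm (by
      show (0 : F) + 0 + φ (C.κ a) * C.κ b = 0 + φ (C.κ a) * C.κ b + φ (C.κ (a * b)) * C.κ 1
      rw [κ_one]; ring)
    have h1 := congrArg (fun e : E => π (Additive.ofMul (e : E ⧸ Δ))) e
    simp only [QuotientGroup.mk_mul, ofMul_mul, map_add] at h1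
    rw [show π (Additive.ofMul ((⟨1, φ (C.κ a) * C.κ b⟩ : E) : E ⧸ Δ)) = φ (C.κ a) * C.κ b from hπj _] at h1
    linear_combination (norm := (ring_nf; simp [CharTwo.two_eq_zero])) h1.symm
  · have e : (⟨z, 0⟩ : E) * ⟨1, C.ι z⟩ = ⟨z, C.ι z⟩ := Tw.eq C (mul_one _) (by
      show (0 : F) + C.ι z + φ (C.κ z) * C.κ 1 = C.ι z
      rw [κ_one]; ring)
    have hm : ((⟨z, C.ι z⟩ : E) : E ⧸ Δ) = 1 := (QuotientGroup.eq_one_iff _).2 ⟨hz, rfl⟩
    rw [← e, QuotientGroup.mk_mul] at hm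
    show π (Additive.ofMul ((⟨z, 0⟩ : E) : E ⧸ Δ)) = C.ι z
    rw [show ((⟨z, 0⟩ : E) : E ⧸ Δ) = ((⟨1, C.ι z⟩ : E) : E ⧸ Δ) by
      rw [eq_inv_of_mul_eq_one_left hm, hinv]]
    exact hπj _

include C in
theorem coords_of_preCoords [CharP F 2] [Fintype F]
    (hF : Fintype.card F = Nat.card (Subgroup.center P))
    (hcard : Nat.card P = Nat.card (Subgroup.center P) ^ 2) (hodd : Odd (Nat.card K)) :
    Nonempty (Coords P K F φ) := by
  classical
  letI := Fintype.ofFinite P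
  haveI : Finite (MulAut P) := Finite.of_injective (fun e : MulAut P => (e : P → P)) DFunLike.coe_injective
  letI := Fintype.ofFinite K
  obtain ⟨β, hβm, hβz⟩ := exists_beta C
  let N : K → F := fun k => C.lam k * φ (C.lam k)
  have hN : ∀ k, N k ≠ 0 := fun k => norm_ne_zero (C.lam_ne k)
  have hlam : ∀ k l : K, C.lam (k * l) = C.lam k * C.lam l := by
    intro k l
    obtain ⟨a, ha⟩ := C.κ_surj 1
    have h1 := C.κ_equi (k * l) a
    rw [Subgroup.coe_mul, MulAut.mul_apply, C.κ_equi k, C.κ_equi l, ha, mul_one, mul_one] at h1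
    exact h1.symm
  have hNm : ∀ k l : K, N (k * l) = N k * N l := fun k l => by
    simp only [N, hlam, map_mul]; ring
  let β' : P → F := fun a => ∑ k : K, (N k)⁻¹ * β ((k : MulAut P) a)
  have hone : ((Fintype.card K : ℕ) : F) = 1 := by
    obtain ⟨r, hr⟩ := hodd
    rw [← Nat.card_eq_fintype_card, hr, Nat.cast_add, Nat.cast_mul, Nat.cast_ofNat, CharTwo.two_eq_zero,
      zero_mul, zero_add, Nat.cast_one]
  have hm' : ∀ a b, β' (a * b) = β' a + β' b + φ (C.κ a) * C.κ b := by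
    intro a b
    simp only [β', map_mul, hβm, C.κ_equi, mul_add, Finset.sum_add_distrib]
    congr 1
    rw [Finset.sum_congr rfl (g := fun _ : K => φ (C.κ a) * C.κ b) fun k _ => by
        have hk := hN k
        have h1 : C.lam k ≠ 0 := C.lam_ne k
        have h2 : φ (C.lam k) ≠ 0 := (map_ne_zero φ).mpr h1
        simp only [N, map_mul]
        field_simp,
      Finset.sum_const, Finset.card_univ, nsmul_eq_mul, hone, one_mul]
  have hz' : ∀ z ∈ Subgroup.center P, β' z = C.ι z := by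
    intro z hz
    simp only [β']
    rw [Finset.sum_congr rfl (g := fun _ : K => C.ι z) fun k _ => by
        rw [hβz _ (apply_center _ hz), C.ι_equi k z hz, ← mul_assoc, inv_mul_cancel₀ (hN k), one_mul],
      Finset.sum_const, Finset.card_univ, nsmul_eq_mul, hone, one_mul]
  have he' : ∀ (l : K) a, β' ((l : MulAut P) a) = N l * β' a := by
    intro l a
    simp only [β', Finset.mul_sum]
    refine Fintype.sum_equiv (Equiv.mulRight l) _ _ fun k => ?_
    rw [Equiv.coe_mulRight, hNm, Subgroup.coe_mul, MulAut.mul_apply]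
    have := hN l
    field_simp
  have hinj : Function.Injective fun a => (C.κ a, β' a) := by
    intro a b e
    obtain ⟨e1, e2⟩ := Prod.mk.injEq _ _ _ _ ▸ e
    have hz : b⁻¹ * a ∈ Subgroup.center P := by
      rw [← C.κ_eq_zero, C.κ_mul, κ_inv, e1, CharTwo.add_self_eq_zero]
    have h := hm' b (b⁻¹ * a)
    rw [mul_inv_cancel_left, hz' _ hz, (C.κ_eq_zero _).2 hz, mul_zero, add_zero, e2] at h
    have h0 : C.ι (b⁻¹ * a) = C.ι 1 := by
      rw [ι_one]; exact add_left_cancel (a := β' b) (by rw [add_zero, ← h])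
    exact (inv_mul_eq_one.1 (C.ι_inj _ _ hz (Subgroup.one_mem _) h0)).symm
  have hbij : Function.Bijective fun a => (C.κ a, β' a) := by
    refine hinj.bijective_of_nat_card_le ?_
    rw [Nat.card_prod, Nat.card_eq_fintype_card (α := F), hF, hcard, sq]
  exact ⟨{
    pos := Equiv.ofBijective _ hbij
    map_mul := fun a b => Prod.ext (C.κ_mul a b) (hm' a b)
    lam := C.lam
    lam_ne := C.lam_ne
    lam_surj := C.lam_surj
    equi := fun k a => Prod.ext (C.κ_equi k a) (he' k a) }⟩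

/-- A Suzuki 2-group of order `|Z| ^ 2` has coordinates in which the automorphisms act as the torus. -/
theorem exists_coords (hP : IsPGroup 2 P) (K : Subgroup (MulAut P)) (hK : TransInvol K)
    (hnc : ∃ x y : P, x * y ≠ y * x)
    (hcard : Nat.card P = Nat.card (Subgroup.center P) ^ 2) (hodd : Odd (Nat.card K)) :
    ∃ (F : Type) (_ : Field F) (_ : Fintype F) (_ : CharP F 2) (φ : F ≃+* F),
      Fintype.card F = Nat.card (Subgroup.center P) ∧ (∃ x, φ x ≠ x) ∧
      Nonempty (Coords P K F φ) := by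
  obtain ⟨F, iF, iF', iC, φ, hF, hφ, ⟨C⟩⟩ := exists_preCoords hP K hK hnc hcard
  exact ⟨F, iF, iF', iC, φ, hF, hφ, coords_of_preCoords C hF hcard hodd⟩

end Cfsg.Agent.Lib.RankOneIdent.Suzuki
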