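import Cfsg.Agent.Lib.RankOneIdent.Suzuki.Main
import Cfsg.Agent.Lib.BenderSuzuki.Zassenhaus

/-!
# The Suzuki recognition for §3 of the Bender-Suzuki plan

Owner: helper73.
-/

set_option autoImplicit false

namespace Cfsg.Agent.Lib.RankOneIdent.Suzuki

universe w z

/-- Uniqueness of the Suzuki groups, in the form used by `BenderSuzuki.propZassenhaus_of`. -/
theorem propSuzukiIso : BenderSuzuki.PropSuzukiIso.{w, z} :=
  fun _ _ _ _ _ _ _ hZ _ _ _ hab hU hU2 hna => isoSuzuki hZ hab hU hU2 hna

/-- §3 of the plan, unconditional. -/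
theorem propZassenhaus : BenderSuzuki.PropZassenhaus.{w, z} :=
  BenderSuzuki.propZassenhaus_of propSuzukiIso

end Cfsg.Agent.Lib.RankOneIdent.Suzuki
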