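import Cfsg.Agent.Lib.RankOneIdent.Suzuki.Coords
import Cfsg.Agent.Lib.SuzukiKernel.Main

/-!
# A simple Zassenhaus group with a non-abelian 2-kernel in coordinates

Owner: helper73. The points are `∞` and `F × F`; we derive the relations `Rel` on the point map of
a swapping involution.
-/

set_option autoImplicit false
set_option linter.unusedSectionVars false
set_option linter.style.haveILetI false

namespace Cfsg.Agent.Lib.RankOneIdent.Suzuki

open MulAction
open Cfsg.Agent.Lib.Zassenhaus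

universe u v

variable {G : Type u} {Ω : Type v} [Group G] [MulAction G Ω]

/-- Coordinates on the kernel `U` equivariant for the two point stabiliser. -/
structure Frame (a b : Ω) (U : Subgroup G) (F : Type) [Field F] (φ : F ≃+* F) where
  zg : Cfsg.IsZassenhausGroup G Ω
  ne : a ≠ b
  reg : RegKernel a b U
  invU : ∀ g : G, g * g = 1 → g ≠ 1 → g • a = a → g ∈ U
  odd : Odd (Nat.card Ω)
  three : ¬ 3 ∣ Nat.card G
  /-- The coordinates. -/
  pos : U ≃ F × F
  map_mul : ∀ x y, pos (x * y) = mulc φ (pos x) (pos y)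
  /-- The scalar of an element of the two point stabiliser. -/
  lam : ↥(stabilizer G a ⊓ stabilizer G b) → F
  lam_ne : ∀ δ, lam δ ≠ 0
  lam_surj : ∀ l, l ≠ 0 → ∃ δ, lam δ = l
  equi : ∀ (δ : ↥(stabilizer G a ⊓ stabilizer G b)) (w x : U),
    (x : G) = δ * w * (δ : G)⁻¹ → pos x = scl φ (lam δ) (pos w)

variable [Finite Ω] {F : Type} [Field F] [CharP F 2] {φ : F ≃+* F} {a b : Ω} {U : Subgroup G}
  (M : Frame a b U F φ)

/-- The element of `U` with given coordinates. -/
def Frame.el (p : F × F) : G := ((M.pos.symm p : U) : G)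

theorem Frame.el_mem (p : F × F) : M.el p ∈ U := (M.pos.symm p).2

theorem Frame.el_inj {p q : F × F} (h : M.el p = M.el q) : p = q :=
  M.pos.symm.injective (Subtype.ext h)

theorem Frame.el_pos (w : U) : M.el (M.pos w) = w := by
  rw [Frame.el, Equiv.symm_apply_apply]

theorem Frame.pos_one : M.pos 1 = 0 := by
  have h := M.map_mul 1 1
  rw [mul_one] at h
  generalize M.pos 1 = p at h
  obtain ⟨x, y⟩ := p
  simp only [mulc, Prod.mk.injEq] at h
  obtain ⟨h1, h2⟩ := h
  rw [CharTwo.add_self_eq_zero] at h1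
  subst h1
  simp only [mul_zero, add_zero, CharTwo.add_self_eq_zero] at h2
  rw [h2]; rfl

theorem Frame.el_zero : M.el 0 = 1 := by
  have := M.el_pos 1
  rwa [M.pos_one] at this

theorem Frame.el_mul (p q : F × F) : M.el p * M.el q = M.el (mulc φ p q) := by
  rw [Frame.el, Frame.el, Frame.el, ← Subgroup.coe_mul]
  congr 1
  apply M.pos.injective
  rw [M.map_mul, Equiv.apply_symm_apply, Equiv.apply_symm_apply, Equiv.apply_symm_apply]

theorem Frame.el_inv (p : F × F) : (M.el p)⁻¹ = M.el (p.1, p.2 + φ p.1 * p.1) := by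
  refine inv_eq_of_mul_eq_one_right ?_
  rw [M.el_mul, ← M.el_zero]
  congr 1
  simp only [mulc, Prod.ext_iff, Prod.fst_zero, Prod.snd_zero, CharTwo.add_self_eq_zero, true_and]
  grind

theorem Frame.conj_el (δ : ↥(stabilizer G a ⊓ stabilizer G b)) (p : F × F) :
    (δ : G) * M.el p * (δ : G)⁻¹ = M.el (scl φ (M.lam δ) p) := by
  have h := M.equi δ (M.pos.symm p)
    ⟨_, RegKernel.conj_pair_mem M.zg M.ne M.reg (M.el_mem p) δ⟩ rfl
  rw [Equiv.apply_symm_apply] at h
  rw [← h, M.el_pos]

theorem Frame.lam_mul (δ ε : ↥(stabilizer G a ⊓ stabilizer G b)) :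
    M.lam (δ * ε) = M.lam δ * M.lam ε := by
  have h := M.conj_el (δ * ε) (1, 0)
  rw [Subgroup.coe_mul, mul_inv_rev,
    show (δ : G) * ε * M.el (1, 0) * ((ε : G)⁻¹ * (δ : G)⁻¹) =
      δ * (ε * M.el (1, 0) * (ε : G)⁻¹) * (δ : G)⁻¹ by group, M.conj_el, M.conj_el] at h
  have := congrArg Prod.fst (M.el_inj h)
  simpa [scl] using this.symm

theorem Frame.lam_one : M.lam 1 = 1 := by
  have h := M.lam_mul 1 1
  rw [mul_one] at h
  exact mul_right_cancel₀ (M.lam_ne 1) (by rw [one_mul]; exact h.symm)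

theorem Frame.lam_inv (δ : ↥(stabilizer G a ⊓ stabilizer G b)) : M.lam δ⁻¹ = (M.lam δ)⁻¹ := by
  refine eq_inv_of_mul_eq_one_left ?_
  rw [← M.lam_mul, inv_mul_cancel, M.lam_one]

include M in
theorem Frame.norm_bij [Finite F] : Function.Bijective fun x : F => x * φ x := by
  refine Finite.injective_iff_bijective.1 fun x y e => ?_
  by_cases hy : y = 0
  · subst hy
    rw [zero_mul, mul_eq_zero, map_eq_zero, or_self] at e
    exact e
  have hx : x ≠ 0 := by
    rintro rfl
    rw [zero_mul] at e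
    exact norm_ne_zero hy e.symm
  obtain ⟨δ, hδ⟩ := M.lam_surj (x / y) (div_ne_zero hx hy)
  have hl : x / y * φ (x / y) = 1 := by
    rw [map_div₀, div_mul_div_comm, e, div_self (norm_ne_zero hy)]
  have h1 : (δ : G) * M.el (0, 1) * (δ : G)⁻¹ = M.el (0, 1) := by
    rw [M.conj_el, hδ, scl, hl]
    simp
  have hne : M.el ((0 : F), (1 : F)) ≠ 1 := by
    rw [← M.el_zero]
    exact fun h => one_ne_zero (congrArg Prod.snd (M.el_inj h))
  have : δ = 1 := RegKernel.conj_pair_injective M.zg M.ne M.reg (M.el_mem _) hne (by simpa using h1)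
  rw [this, M.lam_one] at hδ
  exact (div_eq_one_iff_eq hy).1 hδ.symm

/-- The point with given coordinates. -/
def Frame.pt : Option (F × F) → Ω
  | none => a
  | some p => M.el p • b

theorem Frame.pt_bijective : Function.Bijective M.pt := by
  constructor
  · rintro (_ | p) (_ | q) h
    · rfl
    · exact absurd h.symm (RegKernel.smul_b_ne M.ne M.reg ⟨_, M.el_mem q⟩)
    · exact absurd h (RegKernel.smul_b_ne M.ne M.reg ⟨_, M.el_mem p⟩)
    · have hmem : (M.el q)⁻¹ * M.el p ∈ U := mul_mem (inv_mem (M.el_mem q)) (M.el_mem p)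
      have := RegKernel.inter_pair M.ne M.reg hmem (by
        rw [mul_smul, show M.el p • b = M.el q • b from h, inv_smul_smul])
      rw [M.el_inj (inv_mul_eq_one.1 this)]
  · intro x
    by_cases hx : x = a
    · exact ⟨none, hx.symm⟩
    · obtain ⟨w, hw, -⟩ := M.reg.reg x hx
      exact ⟨some (M.pos w), by rw [Frame.pt, M.el_pos]; exact hw⟩

theorem Frame.pt_zero : M.pt (some 0) = b := by rw [Frame.pt, M.el_zero, one_smul]

theorem Frame.el_smul_none (w : F × F) : M.el w • M.pt none = M.pt none :=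
  mem_stabilizer_iff.1 (M.reg.le (M.el_mem w))

theorem Frame.el_smul_some (w p : F × F) : M.el w • M.pt (some p) = M.pt (some (mulc φ w p)) := by
  rw [Frame.pt, Frame.pt, ← mul_smul, M.el_mul]

theorem Frame.pair_smul_none (δ : ↥(stabilizer G a ⊓ stabilizer G b)) :
    (δ : G) • M.pt none = M.pt none := (mem_pair_stabilizer.1 δ.2).1

theorem Frame.pair_smul_some (δ : ↥(stabilizer G a ⊓ stabilizer G b)) (p : F × F) :
    (δ : G) • M.pt (some p) = M.pt (some (scl φ (M.lam δ) p)) := by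
  show (δ : G) • M.el p • b = M.el (scl φ (M.lam δ) p) • b
  rw [← M.conj_el, mul_smul, mul_smul, inv_smul_eq_iff.2 (mem_pair_stabilizer.1 δ.2).2.symm]

/-- An involution interchanging `a` and `b`. -/
structure Swap (a b : Ω) (t : G) : Prop where
  ord : orderOf t = 2
  ta : t • a = b
  tb : t • b = a

omit [Finite Ω] in
theorem Swap.sq {t : G} (ht : Swap a b t) : t * t = 1 := by
  rw [← pow_two, ← ht.ord, pow_orderOf_eq_one]

theorem Frame.swap_smul_none {t : G} (ht : Swap a b t) : t • M.pt none = M.pt (some 0) := by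
  rw [M.pt_zero]; exact ht.ta

theorem Frame.swap_smul_zero {t : G} (ht : Swap a b t) : t • M.pt (some 0) = M.pt none := by
  rw [M.pt_zero]; exact ht.tb

/-- The map induced by a swapper on `F × F`. -/
noncomputable def Frame.pmap (t : G) (p : F × F) : F × F :=
  ((Equiv.ofBijective _ M.pt_bijective).symm (t • M.pt (some p))).getD 0

theorem Frame.swap_smul_some {t : G} (ht : Swap a b t) {p : F × F} (hp : p ≠ 0) :
    t • M.pt (some p) = M.pt (some (M.pmap t p)) ∧ M.pmap t p ≠ 0 := by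
  obtain ⟨o, ho⟩ := M.pt_bijective.2 (t • M.pt (some p))
  have hsymm : (Equiv.ofBijective _ M.pt_bijective).symm (t • M.pt (some p)) = o := by
    rw [Equiv.symm_apply_eq]; exact ho.symm
  have htt : ∀ x : Ω, t • t • x = x := fun x => by rw [← mul_smul, ht.sq, one_smul]
  cases o with
  | none =>
    have h := congrArg (t • ·) ho
    simp only [htt, M.swap_smul_none ht] at h
    exact absurd (Option.some.inj (M.pt_bijective.1 h)).symm hp
  | some q =>
    have hq : M.pmap t p = q := by rw [Frame.pmap, hsymm]; rfl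
    refine ⟨by rw [hq]; exact ho.symm, fun h0 => ?_⟩
    rw [hq] at h0
    subst h0
    have h := congrArg (t • ·) ho
    simp only [htt, M.swap_smul_zero ht] at h
    exact Option.some_ne_none _ (M.pt_bijective.1 h).symm

theorem Frame.pmap_eq {t : G} (ht : Swap a b t) {p q : F × F} (hp : p ≠ 0)
    (h : t • M.pt (some p) = M.pt (some q)) : M.pmap t p = q := by
  rw [(M.swap_smul_some ht hp).1] at h
  exact Option.some.inj (M.pt_bijective.1 h)

include M in
theorem Frame.swap_conj {t : G} (ht : Swap a b t) (δ : ↥(stabilizer G a ⊓ stabilizer G b)) :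
    t * δ * t = (δ : G)⁻¹ := by
  have := finite_group M.zg
  obtain ⟨c, hc, hu⟩ := existsUnique_fixed_of_odd M.zg M.odd ht.ord
  have h := swap_inverts M.zg M.ne ht.ord ht.ta ht.tb hc hu δ.2
  rwa [inv_eq_of_mul_eq_one_right ht.sq] at h

theorem Frame.pmap_scl {t : G} (ht : Swap a b t) {l : F} (hl : l ≠ 0) {p : F × F} (hp : p ≠ 0) :
    M.pmap t (scl φ l p) = scl φ l⁻¹ (M.pmap t p) := by
  obtain ⟨δ, rfl⟩ := M.lam_surj l hl
  have htd : t * δ = (δ⁻¹ : ↥(stabilizer G a ⊓ stabilizer G b)) * t := by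
    rw [Subgroup.coe_inv, ← M.swap_conj ht δ, mul_assoc, ht.sq, mul_one]
  refine M.pmap_eq ht (fun e => hp ?_) ?_
  · simp only [scl, Prod.ext_iff, Prod.fst_zero, Prod.snd_zero] at e
    obtain ⟨e1, e2⟩ := e
    exact Prod.ext ((mul_eq_zero.1 e1).resolve_left hl)
      ((mul_eq_zero.1 e2).resolve_left (norm_ne_zero hl))
  · rw [← M.pair_smul_some, ← mul_smul, htd, mul_smul, (M.swap_smul_some ht hp).1,
      M.pair_smul_some, M.lam_inv]

theorem Frame.exists_fixed {t : G} (ht : Swap a b t) :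
    ∃ p, p ≠ 0 ∧ t • M.pt (some p) = M.pt (some p) := by
  have := finite_group M.zg
  obtain ⟨c, hc, -⟩ := existsUnique_fixed_of_odd M.zg M.odd ht.ord
  obtain ⟨o, rfl⟩ := M.pt_bijective.2 c
  cases o with
  | none =>
    rw [M.swap_smul_none ht] at hc
    exact absurd (M.pt_bijective.1 hc) (by simp)
  | some p =>
    refine ⟨p, fun h0 => ?_, hc⟩
    subst h0
    rw [M.swap_smul_zero ht] at hc
    exact absurd (M.pt_bijective.1 hc) (by simp)

theorem Frame.relation {t : G} (ht : Swap a b t) {p : F × F}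
    (hp : t • M.pt (some p) = M.pt (some p)) :
    ∃ k : F, k ≠ 0 ∧ t * M.el (0, k) * t = (M.el p)⁻¹ * t * M.el p := by
  obtain ⟨r, hr⟩ : ∃ r, r = M.el p := ⟨_, rfl⟩
  rw [← hr]
  have hp' : t • r • b = r • b := by
    rw [hr]
    exact hp
  obtain ⟨g, hg⟩ : ∃ g, g = t * (r⁻¹ * t * r) * t := ⟨_, rfl⟩
  have htt := ht.sq
  have hxx : r⁻¹ * t * r * (r⁻¹ * t * r) = 1 := by
    rw [show r⁻¹ * t * r * (r⁻¹ * t * r) = r⁻¹ * (t * t) * r by group, htt, mul_one, inv_mul_cancel]
  have hgg : g * g = 1 := by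
    rw [hg]
    generalize r⁻¹ * t * r = x at hxx
    calc t * x * t * (t * x * t) = t * x * (t * t) * x * t := by group
      _ = t * (x * x) * t := by rw [htt, mul_one, mul_assoc t x x]
      _ = 1 := by rw [hxx, mul_one, htt]
  have hga : g • a = a := by
    rw [hg, mul_smul, ht.ta, mul_smul, mul_smul, mul_smul, hp', inv_smul_smul, ht.tb]
  have hg1 : g ≠ 1 := by
    intro e
    have h2 : r⁻¹ * t * r = 1 := by
      calc r⁻¹ * t * r = t * (t * (r⁻¹ * t * r) * t) * t := by
            rw [show t * (t * (r⁻¹ * t * r) * t) * t = (t * t) * (r⁻¹ * t * r) * (t * t) by group, htt]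
            group
        _ = t * g * t := by rw [← hg]
        _ = 1 := by rw [e, mul_one, htt]
    have h3 : t = 1 := by
      calc t = r * (r⁻¹ * t * r) * r⁻¹ := by group
        _ = 1 := by rw [h2]; group
    have := ht.ord
    rw [h3, orderOf_one] at this
    omega
  have hgU := M.invU g hgg hg1 hga
  have he : M.el (M.pos ⟨g, hgU⟩) = g := M.el_pos _
  rcases hxy : M.pos ⟨g, hgU⟩ with ⟨x, y⟩
  rw [hxy] at he
  have h0 := hgg
  rw [← he, M.el_mul, ← M.el_zero] at h0
  have h0' := M.el_inj h0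
  simp only [mulc, Prod.ext_iff, Prod.fst_zero, Prod.snd_zero, CharTwo.add_self_eq_zero, true_and,
    zero_add, mul_eq_zero, map_eq_zero, or_self] at h0'
  subst h0'
  refine ⟨y, fun e => hg1 ?_, ?_⟩
  · rw [← he, e]; exact M.el_zero
  · rw [he, hg]
    calc t * (t * (r⁻¹ * t * r) * t) * t = (t * t) * (r⁻¹ * t * r) * (t * t) := by group
      _ = r⁻¹ * t * r := by rw [htt]; group

theorem Frame.fixed_fst_ne {t : G} (ht : Swap a b t) {p : F × F}
    (hp : t • M.pt (some p) = M.pt (some p)) : p.1 ≠ 0 := by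
  intro hx
  obtain ⟨k, hk, hrel⟩ := M.relation ht hp
  have hinv : (M.el p)⁻¹ = M.el p := by
    rw [M.el_inv, hx]
    congr 1
    simp [Prod.ext_iff, hx]
  have h1 : t • M.pt (some (0, k)) = M.pt (some p) := by
    calc t • M.pt (some (0, k)) = (t * M.el (0, k) * t) • M.pt none := by
          rw [mul_smul, mul_smul, M.swap_smul_none ht, M.el_smul_some]
          congr 3
          simp [mulc]
      _ = M.pt (some p) := by
          rw [hrel, hinv, mul_smul, mul_smul, M.el_smul_none, M.swap_smul_none ht, M.el_smul_some]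
          congr 2
          simp [mulc]
  have hkp : ((0, k) : F × F) = p := by
    have h2 : t • t • M.pt (some (0, k)) = t • M.pt (some p) := by rw [h1]
    rw [← mul_smul, ht.sq, one_smul, hp] at h2
    exact Option.some.inj (M.pt_bijective.1 h2)
  rw [← hkp] at hinv hrel
  rw [hinv] at hrel
  obtain ⟨g, hg⟩ : ∃ g, g = M.el (0, k) := ⟨_, rfl⟩
  rw [← hg] at hrel hinv
  have hgg : g * g = 1 := by rw [mul_eq_one_iff_eq_inv, hinv]
  have h3 : (t * g) ^ 3 = 1 := by
    calc (t * g) ^ 3 = (t * g * t) * (g * t * g) := by rw [pow_succ, pow_succ, pow_one]; group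
      _ = (t * g * t) * (t * g * t) := by rw [← hrel]
      _ = t * g * (t * t) * g * t := by group
      _ = t * (g * g) * t := by rw [ht.sq, mul_one]; group
      _ = 1 := by rw [hgg, mul_one, ht.sq]
  have hne : t * g ≠ 1 := by
    intro e
    have htg : t = g := by rw [← hinv]; exact mul_eq_one_iff_eq_inv.1 e
    have := ht.ta
    rw [htg, mem_stabilizer_iff.1 (M.reg.le (hg ▸ M.el_mem (0, k)))] at this
    exact M.ne this
  have := finite_group M.zg
  haveI : Fact (Nat.Prime 3) := ⟨Nat.prime_three⟩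
  exact M.three (orderOf_eq_prime h3 hne ▸ orderOf_dvd_natCard (t * g))

/-- The relations on the point map of a suitable swapper. -/
theorem Frame.exists_rel [Finite F] :
    ∃ (t : G) (c k : F), Swap a b t ∧ Rel φ (M.pmap t) c k := by
  obtain ⟨t₀, ht₀, hta, htb⟩ := exists_swap M.zg M.ne
  have hs₀ : Swap a b t₀ := ⟨ht₀, hta, htb⟩
  obtain ⟨p, hp0, hp⟩ := M.exists_fixed hs₀
  have hx := M.fixed_fst_ne hs₀ hp
  obtain ⟨δ, hδ⟩ := M.lam_surj p.1⁻¹ (inv_ne_zero hx)
  obtain ⟨hδa, hδb⟩ := mem_pair_stabilizer.1 δ.2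
  obtain ⟨t, htdef⟩ : ∃ t, t = (δ : G) * t₀ * (δ : G)⁻¹ := ⟨_, rfl⟩
  have ht : Swap a b t := by
    refine ⟨?_, ?_, ?_⟩
    · rw [htdef]
      exact (orderOf_injective (MulAut.conj (δ : G)).toMonoidHom
        (MulAut.conj (δ : G)).injective t₀).trans ht₀
    · rw [htdef, mul_smul, mul_smul, inv_smul_eq_iff.2 hδa.symm, hta, hδb]
    · rw [htdef, mul_smul, mul_smul, inv_smul_eq_iff.2 hδb.symm, htb, hδa]
  obtain ⟨c, hc⟩ : ∃ c, c = M.lam δ * φ (M.lam δ) * p.2 := ⟨_, rfl⟩
  have hsc : scl φ (M.lam δ) p = (1, c) := by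
    rw [scl, hc, hδ, inv_mul_cancel₀ hx]
  have hfix : t • M.pt (some (1, c)) = M.pt (some (1, c)) := by
    rw [← hsc, ← M.pair_smul_some, htdef, mul_smul, mul_smul, inv_smul_smul, hp]
  obtain ⟨k, hk, hrel⟩ := M.relation ht hfix
  have hrinv : (M.el (1, c))⁻¹ = M.el (1, c + 1) := by
    rw [M.el_inv, map_one, mul_one]
  have h1c : ((1, c) : F × F) ≠ 0 := pair_ne_zero (Or.inl one_ne_zero)
  have h0k : ((0, k) : F × F) ≠ 0 := pair_ne_zero (Or.inr hk)
  have hinvol : ∀ u, u ≠ 0 → M.pmap t (M.pmap t u) = u := by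
    intro u hu
    obtain ⟨h1, h2⟩ := M.swap_smul_some ht hu
    refine M.pmap_eq ht h2 ?_
    rw [← h1, ← mul_smul, ht.sq, one_smul]
  have hatZ : M.pmap t (0, k) = (1, c + 1) := by
    refine M.pmap_eq ht h0k ?_
    calc t • M.pt (some (0, k)) = (t * M.el (0, k) * t) • M.pt none := by
          rw [mul_smul, mul_smul, M.swap_smul_none ht, M.el_smul_some]
          congr 3
          simp [mulc]
      _ = M.pt (some (1, c + 1)) := by
          rw [hrel, hrinv, mul_smul, mul_smul, M.el_smul_none, M.swap_smul_none ht, M.el_smul_some]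
          congr 2
          simp [mulc]
  refine ⟨t, c, k, ht, M.norm_bij, hk, hinvol, fun l hl u hu => M.pmap_scl ht hl hu,
    M.pmap_eq ht h1c hfix, hatZ, fun v hv hv' => ?_⟩
  obtain ⟨h1, h2⟩ := M.swap_smul_some ht hv
  have hA : ((M.pmap t v).1, (M.pmap t v).2 + k) ≠ (0 : F × F) := by
    intro e
    simp only [Prod.mk_eq_zero] at e
    have : M.pmap t v = (0, k) := Prod.ext e.1 (CharTwo.add_eq_zero.mp e.2)
    apply hv'
    rw [← hinvol v hv, this, hatZ]
  have hB : mulc φ (1, c) v ≠ 0 := by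
    intro e
    apply hv'
    simp only [mulc, map_one, one_mul, Prod.ext_iff, Prod.fst_zero, Prod.snd_zero] at e
    exact Prod.ext (by grind) (by grind)
  obtain ⟨hA1, -⟩ := M.swap_smul_some ht hA
  obtain ⟨hB1, -⟩ := M.swap_smul_some ht hB
  refine M.pmap_eq ht hA ?_
  have e1 : (t * M.el (0, k) * t) • M.pt (some v) =
      t • M.pt (some ((M.pmap t v).1, (M.pmap t v).2 + k)) := by
    rw [mul_smul, mul_smul, h1, M.el_smul_some]
    congr 3
    simp [mulc, add_comm]
  rw [← e1, hrel, hrinv, mul_smul, mul_smul, M.el_smul_some, hB1, M.el_smul_some]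

end Cfsg.Agent.Lib.RankOneIdent.Suzuki
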